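import Groth.Agent.NodalLib.BaseChange
import Groth.Agent.GorFib.Basic
import Groth.Agent.LC.GorQuot
import Groth.Agent.RegLoc6.Basic

/-!
# Local rings of at-worst-nodal curves
-/

set_option autoImplicit false
set_option linter.style.haveILetI false
set_option linter.unusedSectionVars false
set_option backward.isDefEq.respectTransparency false
set_option backward.isDefEq.respectTransparency.types false
set_option maxHeartbeats 1000000

universe u

open CategoryTheory CategoryTheory.Limits AlgebraicGeometry IsLocalRing

noncomputable section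

namespace Groth.Agent.NodalLib

theorem gorenstein_of_isOrdDoublePt {K A : Type u} [Field K] [CommRing A] [IsLocalRing A] [IsNoetherianRing A]
    [Algebra K A] (h : Curv2.IsOrdDoublePt K A) : LocCoh.IsGorensteinLocalRing A := by
  obtain ⟨e, -⟩ := h
  obtain ⟨hN, hreg, -⟩ := CohenLib.isRegular_complete_mvPowerSeries (Λ := K) (Or.inl (Field.toIsField K)) 2
  let P := MvPowerSeries (Fin 2) K
  haveI : IsNoetherianRing P := hN
  haveI : IsRegularLocalRing P := hreg
  haveI : IsDomain P := RegLoc6.isDomain_of_isRegularLocalRing P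
  haveI : LocCoh.IsGorensteinLocalRing P := LC.gorenstein_of_isRegularLocalRing
  let h : P := MvPowerSeries.X 0 * MvPowerSeries.X 1
  have h0 : h ≠ 0 := by
    have hX : ∀ i : Fin 2, (MvPowerSeries.X i : P) ≠ 0 := fun i hi => by
      have := congrArg (MvPowerSeries.coeff (Finsupp.single i 1)) hi
      rw [MvPowerSeries.coeff_index_single_self_X, map_zero] at this
      exact one_ne_zero this
    exact mul_ne_zero (hX 0) (hX 1)
  haveI : IsNoetherianRing (P ⧸ Ideal.span {h}) := inferInstance
  have hQ : LocCoh.IsGorensteinLocalRing (P ⧸ Ideal.span {h}) :=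
    LC.gorenstein_of_surjective_span_singleton (Ideal.Quotient.mk _) Ideal.Quotient.mk_surjective
      (x := h) (by rw [PSLib.maximalIdeal_eq_vars]; exact X_mul_X_mem_vars)
      (fun a b hab => mul_left_cancel₀ h0 hab) (Ideal.mk_ker)
  let C := AdicCompletion (maximalIdeal A) A
  haveI : IsNoetherianRing C := LC.Canon.isNoetherianRing_completion (R := A)
  exact ((GorFib.gor_iff A C).1 (GorFib.gor_of_equiv e.symm hQ)).1

variable (k : Type u) [Field k] (X : Scheme.{u}) [X.Over (Spec (CommRingCat.of k))]
  [LocallyOfFiniteType (X ↘ Spec (CommRingCat.of k))]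

include k in
theorem topologicalKrullDim_le_one_of_components
    (hc : ∀ Z ∈ irreducibleComponents (X : Type u), topologicalKrullDim Z = 1) :
    topologicalKrullDim X ≤ 1 := by
  haveI : Subsingleton ↥(Spec (CommRingCat.of k)) := inferInstanceAs (Subsingleton (PrimeSpectrum k))
  rw [FibDim.topologicalKrullDim_eq_iSup_rd (X ↘ Spec (CommRingCat.of k))]
  refine iSup_le fun z => ?_
  obtain ⟨C, hC, hsub⟩ := exists_mem_irreducibleComponents_subset_of_isIrreducible (closure {z})
    isIrreducible_singleton.closure
  rw [← FibDim.topologicalKrullDim_closure (X ↘ Spec (CommRingCat.of k)) z, ← hc C hC]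
  exact Topology.IsInducing.topologicalKrullDim_le (f := Set.inclusion hsub)
    (Topology.IsEmbedding.inclusion hsub).toIsInducing

/-- A point of a geometric base change is regular or an ordinary double point. -/
theorem regular_or_odp (hdim : topologicalKrullDim X ≤ 1) (hX : Curv2.AtWorstNodal k X)
    (w : Curv2.bc k X (AlgebraicClosure k)) :
    (X ↘ Spec (CommRingCat.of k)).smoothLocus.1 (Curv2.bcFst k X (AlgebraicClosure k) w) ∧
      IsRegularLocalRing ((Curv2.bc k X (AlgebraicClosure k)).presheaf.stalk w) ∨
    @Curv2.IsOrdDoublePt (AlgebraicClosure k) _ ((Curv2.bc k X (AlgebraicClosure k)).presheaf.stalk w) _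
      (@Curv2.stalkAlgebra (AlgebraicClosure k) _ (Curv2.bc k X (AlgebraicClosure k))
        ⟨Curv2.bcSnd k X (AlgebraicClosure k)⟩ w) _ := by
  let kb := AlgebraicClosure k
  let str := X ↘ Spec (CommRingCat.of k)
  let gk := Spec.map (CommRingCat.ofHom (algebraMap k kb))
  haveI : LocallyOfFinitePresentation (pullback.snd str gk) :=
    MorphismProperty.pullback_snd _ _ inferInstance
  have key : pullback.fst str gk w ∈ str.smoothLocus →
      str.smoothLocus.1 (pullback.fst str gk w) ∧ IsRegularLocalRing ((pullback str gk).presheaf.stalk w) := fun h => by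
    refine ⟨h, SmoothReg.isRegularLocalRing_stalk_of_mem_smoothLocus (pullback.snd str gk) ?_⟩
    rw [S2155.result str gk (pullback.snd str gk) (pullback.fst str gk) (IsPullback.of_hasPullback str gk)
      (Or.inr inferInstance)]
    exact h
  by_cases hx : IsClosed ({Curv2.bcFst k X kb w} : Set X)
  · rcases hX _ hx with hU | hn
    · exact Or.inl (key (mem_smoothLocus_of_open k X hU))
    · exact Or.inr (isOrdDoublePt_of_over_node k X _ hn w rfl)
  · exact Or.inl (key (mem_smoothLocus_of_not_isClosed k X hdim hX _ hx))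

theorem isReduced_bc (hdim : topologicalKrullDim X ≤ 1) (hX : Curv2.AtWorstNodal k X) :
    IsReduced (Curv2.bc k X (AlgebraicClosure k)) := by
  let W := Curv2.bc k X (AlgebraicClosure k)
  letI : W.Over (Spec (CommRingCat.of (AlgebraicClosure k))) := ⟨Curv2.bcSnd k X (AlgebraicClosure k)⟩
  haveI : LocallyOfFiniteType (W ↘ Spec (CommRingCat.of (AlgebraicClosure k))) :=
    inferInstanceAs (LocallyOfFiniteType (pullback.snd (X ↘ Spec (CommRingCat.of k))
      (Spec.map (CommRingCat.ofHom (algebraMap k (AlgebraicClosure k))))))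
  haveI : IsLocallyNoetherian W := LocallyOfFiniteType.isLocallyNoetherian (W ↘ Spec (CommRingCat.of (AlgebraicClosure k)))
  haveI : ∀ w : W, _root_.IsReduced (W.presheaf.stalk w) := fun w => by
    rcases regular_or_odp k X hdim hX w with ⟨-, hr⟩ | ho
    · haveI := hr
      haveI := RegLoc6.isDomain_of_isRegularLocalRing (W.presheaf.stalk w)
      infer_instance
    · letI := Curv2.stalkAlgebra (AlgebraicClosure k) W w
      exact isReduced_of_isOrdDoublePt ho
  exact isReduced_of_isReduced_stalk W

theorem gorenstein_stalk (hdim : topologicalKrullDim X ≤ 1) (hX : Curv2.AtWorstNodal k X) (x : X) :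
    LocCoh.IsGorensteinLocalRing (X.presheaf.stalk x) := by
  let kb := AlgebraicClosure k
  let str := X ↘ Spec (CommRingCat.of k)
  let gk := Spec.map (CommRingCat.ofHom (algebraMap k kb))
  let W := Curv2.bc k X kb
  letI : W.Over (Spec (CommRingCat.of kb)) := ⟨Curv2.bcSnd k X kb⟩
  haveI : LocallyOfFiniteType (W ↘ Spec (CommRingCat.of kb)) :=
    inferInstanceAs (LocallyOfFiniteType (pullback.snd str gk))
  haveI : IsLocallyNoetherian W := LocallyOfFiniteType.isLocallyNoetherian (W ↘ Spec (CommRingCat.of kb))
  haveI : IsLocallyNoetherian X := LocallyOfFiniteType.isLocallyNoetherian str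
  haveI : Surjective (Curv2.bcFst k X kb) := by
    haveI : Surjective gk :=
      ⟨fun t => ⟨IsLocalRing.closedPoint kb, Subsingleton.elim (α := PrimeSpectrum k) _ _⟩⟩
    exact MorphismProperty.pullback_fst _ _ inferInstance
  haveI : Flat (Curv2.bcFst k X kb) := MorphismProperty.pullback_fst str gk inferInstance
  obtain ⟨w, rfl⟩ := (Curv2.bcFst k X kb).surjective x
  have hW : LocCoh.IsGorensteinLocalRing (W.presheaf.stalk w) := by
    rcases regular_or_odp k X hdim hX w with ⟨-, hr⟩ | ho
    · haveI := hr
      exact LC.gorenstein_of_isRegularLocalRing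
    · letI := Curv2.stalkAlgebra kb W w
      exact gorenstein_of_isOrdDoublePt ho
  have hflat : ((Curv2.bcFst k X kb).stalkMap w).hom.Flat := Flat.stalkMap _ w
  algebraize [((Curv2.bcFst k X kb).stalkMap w).hom]
  haveI : IsLocalHom (algebraMap (X.presheaf.stalk (Curv2.bcFst k X kb w)) (W.presheaf.stalk w)) :=
    (Curv2.bcFst k X kb).toLRSHom.prop w
  exact ((GorFib.gor_iff (X.presheaf.stalk (Curv2.bcFst k X kb w)) (W.presheaf.stalk w)).1 hW).1

end Groth.Agent.NodalLib
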