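import Groth.Agent.NodalLib.Descent
import Groth.Agent.VarGeom.Normal

/-!
# Base change of nodal families
-/

set_option autoImplicit false
set_option linter.style.haveILetI false
set_option linter.unusedSectionVars false
set_option backward.isDefEq.respectTransparency false
set_option backward.isDefEq.respectTransparency.types false
set_option maxHeartbeats 1000000

universe u

open CategoryTheory CategoryTheory.Limits AlgebraicGeometry

noncomputable section

namespace Groth.Agent.NodalLib

section Field

variable (k : Type u) [Field k] (X : Scheme.{u}) [X.Over (Spec (CommRingCat.of k))]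
  [LocallyOfFiniteType (X ↘ Spec (CommRingCat.of k))]

theorem mem_smoothLocus_of_open {x : X} (h : ∃ U : X.Opens, x ∈ U ∧ Smooth (U.ι ≫ (X ↘ Spec (CommRingCat.of k)))) :
    x ∈ (X ↘ Spec (CommRingCat.of k)).smoothLocus := by
  obtain ⟨U, hU, hsm⟩ := h
  haveI := hsm
  have h1 : (⟨x, hU⟩ : U.toScheme) ∈ (U.ι ≫ (X ↘ Spec (CommRingCat.of k))).smoothLocus := by
    rw [Scheme.Hom.smoothLocus_eq_top]; trivial
  rwa [← Scheme.Hom.preimage_smoothLocus_eq] at h1

theorem exists_smooth_open {x : X} (h : x ∈ (X ↘ Spec (CommRingCat.of k)).smoothLocus) :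
    ∃ U : X.Opens, x ∈ U ∧ Smooth (U.ι ≫ (X ↘ Spec (CommRingCat.of k))) := by
  refine ⟨_, h, ?_⟩
  rw [← Scheme.Hom.smoothLocus_eq_top_iff, ← Scheme.Hom.preimage_smoothLocus_eq]
  exact Scheme.Opens.ι_preimage_self _

/-- A non-closed point of a one-dimensional scheme with reduced local ring has a field as local ring. -/
theorem isField_stalk_of_not_isClosed' {X : Scheme.{u}} [IsLocallyNoetherian X] (hdim : topologicalKrullDim X ≤ 1) (w : X)
    (hw : ¬ IsClosed ({w} : Set X))
    [_root_.IsReduced (X.presheaf.stalk w)] : IsField (X.presheaf.stalk w) := by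
  obtain ⟨z, hz, hzw⟩ : ∃ z, w ⤳ z ∧ z ≠ w := by
    by_contra hcon
    push Not at hcon
    exact hw (closure_eq_iff_isClosed.1 (Set.eq_singleton_iff_unique_mem.2
      ⟨subset_closure rfl, fun z hz => hcon z (specializes_iff_mem_closure.2 hz)⟩))
  have hlt : z < w := lt_of_le_not_ge hz fun h => hzw (Specializes.antisymm h hz).eq
  have h1 := (SchTop.ringKrullDim_stalk_le z).trans hdim
  rw [ringKrullDim_stalk_eq_coheight] at h1
  have h3 : Order.coheight z ≤ 1 := by exact_mod_cast h1
  have h4 : Order.coheight w = 0 := by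
    have := (Order.coheight_add_one_le hlt).trans h3
    generalize Order.coheight w = n at this ⊢
    match n with
    | ⊤ => simp at this
    | (n : ℕ) => norm_cast at this ⊢; omega
  haveI : Ring.KrullDimLE 0 (X.presheaf.stalk w) :=
    Ring.krullDimLE_iff.2 (by rw [ringKrullDim_stalk_eq_coheight, h4]; rfl)
  exact Ring.KrullDimLE.isField_of_isReduced

/-- An at-worst-nodal curve is smooth away from finitely many closed points. -/
theorem mem_smoothLocus_of_not_isClosed (hdim : topologicalKrullDim X ≤ 1) (hX : Curv2.AtWorstNodal k X)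
    (x : X) (hx : ¬ IsClosed ({x} : Set X)) : x ∈ (X ↘ Spec (CommRingCat.of k)).smoothLocus := by
  let str := X ↘ Spec (CommRingCat.of k)
  let kb := AlgebraicClosure k
  let gk := Spec.map (CommRingCat.ofHom (algebraMap k kb))
  let W := Curv2.bc k X kb
  letI : W.Over (Spec (CommRingCat.of kb)) := ⟨Curv2.bcSnd k X kb⟩
  haveI : LocallyOfFiniteType (W ↘ Spec (CommRingCat.of kb)) :=
    inferInstanceAs (LocallyOfFiniteType (pullback.snd str gk))
  haveI : IsLocallyNoetherian W := LocallyOfFiniteType.isLocallyNoetherian (W ↘ Spec (CommRingCat.of kb))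
  haveI : Subsingleton ↥(Spec (CommRingCat.of kb)) := inferInstanceAs (Subsingleton (PrimeSpectrum kb))
  haveI : Subsingleton ↥(Spec (CommRingCat.of k)) := inferInstanceAs (Subsingleton (PrimeSpectrum k))
  haveI : Surjective gk := ⟨fun t => ⟨IsLocalRing.closedPoint kb, Subsingleton.elim _ _⟩⟩
  haveI : IsIntegralHom (Curv2.bcFst k X kb) := by
    haveI : IsIntegralHom gk := by
      rw [IsIntegralHom.SpecMap_iff]
      exact algebraMap_isIntegral_iff.2 inferInstance
    exact MorphismProperty.pullback_fst str gk inferInstance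
  haveI : Surjective (Curv2.bcFst k X kb) := MorphismProperty.pullback_fst _ _ inferInstance
  obtain ⟨w, hw⟩ := (Curv2.bcFst k X kb).surjective x
  haveI : LocallyOfFinitePresentation (pullback.snd str gk) :=
    MorphismProperty.pullback_snd _ _ inferInstance
  have e := S2155.result str gk (pullback.snd str gk) (pullback.fst str gk) (IsPullback.of_hasPullback str gk)
    (Or.inr inferInstance)
  have hdimW : topologicalKrullDim W ≤ 1 := by
    rw [FibDim.topologicalKrullDim_eq_iSup_rd (pullback.snd str gk)]
    refine iSup_le fun v' => le_trans ?_ (le_trans (le_iSup_of_le (pullback.fst str gk v') le_rfl)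
      ((FibDim.topologicalKrullDim_eq_iSup_rd str).ge.trans hdim))
    exact_mod_cast FibDim.rd_baseChange_le (IsPullback.of_hasPullback str gk) v'
  suffices w ∈ (pullback.snd str gk).smoothLocus by
    rw [e] at this
    exact hw ▸ this
  have hwc : ¬ IsClosed ({w} : Set W) := fun h => hx (by
    have := (Curv2.bcFst k X kb).isClosedMap _ h
    rwa [Set.image_singleton, hw] at this)
  haveI : JacobsonSpace W := LocallyOfFiniteType.jacobsonSpace (W ↘ Spec (CommRingCat.of kb))
  obtain ⟨w₀, hw₀, hw₀c⟩ := nonempty_inter_closedPoints (Z := closure ({w} : Set W))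
    ⟨w, subset_closure rfl⟩ isClosed_closure.isLocallyClosed
  have hsp : w ⤳ w₀ := specializes_iff_mem_closure.2 hw₀
  have hxc : IsClosed ({Curv2.bcFst k X kb w₀} : Set X) := by
    have := (Curv2.bcFst k X kb).isClosedMap _ hw₀c
    rwa [Set.image_singleton] at this
  rcases hX _ hxc with hU | hn
  · have h1 : w₀ ∈ (pullback.snd str gk).smoothLocus := by
      rw [e]
      exact mem_smoothLocus_of_open k X hU
    exact hsp.mem_open (pullback.snd str gk).smoothLocus.2 h1
  · have hodp := isOrdDoublePt_of_over_node k X _ hn w₀ rfl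
    letI := Curv2.stalkAlgebra kb W w₀
    haveI : _root_.IsReduced (W.presheaf.stalk w₀) := isReduced_of_isOrdDoublePt hodp
    haveI : _root_.IsReduced (W.presheaf.stalk w) := by
      obtain ⟨S, hS⟩ := VarGeom.exists_isLocalization_stalkSpecializes hsp
      letI := (W.presheaf.stalkSpecializes hsp).hom.toAlgebra
      haveI := hS
      exact isReduced_localizationPreserves S (W.presheaf.stalk w) inferInstance
    have hf := isField_stalk_of_not_isClosed' hdimW w hwc
    rw [SmoothReg.mem_smoothLocus_iff_isRegularLocalRing (pullback.snd str gk)]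
    letI := hf.toField
    infer_instance

/-- One-dimensional at-worst-nodal schemes are stable under field extensions. -/
theorem nodal_bc (K : Type u) [Field K] [Algebra k K]
    (hc : ∀ Z ∈ irreducibleComponents (X : Type u), topologicalKrullDim Z = 1) (hX : Curv2.AtWorstNodal k X) :
    (∀ Z ∈ irreducibleComponents (Curv2.bc k X K : Type u), topologicalKrullDim Z = 1) ∧
      @Curv2.AtWorstNodal K _ (Curv2.bc k X K) ⟨Curv2.bcSnd k X K⟩ := by
  let str := X ↘ Spec (CommRingCat.of k)
  let g := Spec.map (CommRingCat.ofHom (algebraMap k K))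
  haveI : Subsingleton ↥(Spec (CommRingCat.of k)) := inferInstanceAs (Subsingleton (PrimeSpectrum k))
  haveI : Subsingleton ↥(Spec (CommRingCat.of K)) := inferInstanceAs (Subsingleton (PrimeSpectrum K))
  haveI : Flat (Curv2.bcFst k X K) := MorphismProperty.pullback_fst str g inferInstance
  haveI : LocallyOfFinitePresentation (pullback.snd str g) :=
    MorphismProperty.pullback_snd _ _ inferInstance
  refine ⟨fun Z hZ => ?_, fun y hy => ?_⟩
  · obtain ⟨η, rfl, hη⟩ := VarDim.exists_generic_of_component hZ
    have hmax : ∀ z, z ⤳ pullback.fst str g η → z = pullback.fst str g η := fun z hz => by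
      obtain ⟨v, hv, he⟩ := Flat.generalizingMap (pullback.fst str g) hz
      rw [← he, hη v hv]
    have h1 := hc _ (VarDim.closure_mem_irreducibleComponents hmax)
    rw [FibDim.topologicalKrullDim_closure str] at h1
    rw [FibDim.topologicalKrullDim_closure (Curv2.bcSnd k X K),
      FibDim.rd_baseChange_eq_of_minimal (IsPullback.of_hasPullback str g) η (fun w hw _ _ => hη w hw)]
    exact h1
  have hdim : topologicalKrullDim (X : Type u) = 1 := by
    let x := Curv2.bcFst k X K y
    refine le_antisymm ?_ ?_
    · rw [FibDim.topologicalKrullDim_eq_iSup_rd str]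
      refine iSup_le fun z => ?_
      obtain ⟨C, hC, hsub⟩ := exists_mem_irreducibleComponents_subset_of_isIrreducible (closure {z})
        isIrreducible_singleton.closure
      rw [← FibDim.topologicalKrullDim_closure str z, ← hc C hC]
      exact Topology.IsInducing.topologicalKrullDim_le (f := Set.inclusion hsub)
        (Topology.IsEmbedding.inclusion hsub).toIsInducing
    · obtain ⟨C, hC, -⟩ := exists_mem_irreducibleComponents_subset_of_isIrreducible (closure {x})
        isIrreducible_singleton.closure
      rw [← hc C hC]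
      exact topologicalKrullDim_subspace_le _ _
  have key : Curv2.bcFst k X K y ∈ str.smoothLocus →
      ∃ U : (Curv2.bc k X K).Opens, y ∈ U ∧ Smooth (U.ι ≫ Curv2.bcSnd k X K) := fun hs => by
    refine @exists_smooth_open K _ (Curv2.bc k X K) ⟨Curv2.bcSnd k X K⟩
      (inferInstanceAs (LocallyOfFiniteType (pullback.snd str g))) y ?_
    show y ∈ (pullback.snd str g).smoothLocus
    rw [S2155.result str g (pullback.snd str g) (pullback.fst str g) (IsPullback.of_hasPullback str g)
      (Or.inr inferInstance)]
    exact hs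
  by_cases hx : IsClosed ({Curv2.bcFst k X K y} : Set X)
  · rcases hX _ hx with hU | hn
    · exact Or.inl (key (mem_smoothLocus_of_open k X hU))
    · exact Or.inr ((S1588.result k X hdim K y).1 hn)
  · exact Or.inl (key (mem_smoothLocus_of_not_isClosed k X hdim.le hX _ hx))

end Field

theorem isNodalFamily_pullback_snd {X S S' : Scheme.{u}} (f : X ⟶ S) (h : Curv2.IsNodalFamily f) (g : S' ⟶ S) :
    Curv2.IsNodalFamily (pullback.snd f g) := by
  obtain ⟨hfl, hfp, hfib⟩ := h
  haveI hq1 : Flat (pullback.snd f g) := MorphismProperty.pullback_snd _ _ hfl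
  haveI hq2 : LocallyOfFinitePresentation (pullback.snd f g) := MorphismProperty.pullback_snd _ _ hfp
  refine ⟨hq1, hq2, fun s' => ?_⟩
  let s := g s'
  let q := pullback.snd f g
  let a := Spec.map (g.residueFieldMap s') ≫ Spec.map (S.residueFieldCongr (show g s' = s from rfl)).inv
  let j : q.fiber s' ⟶ f.fiber s :=
    pullback.lift (q.fiberι s' ≫ pullback.fst f g) (q.fiberToSpecResidueField s' ≫ a) (by
      rw [Category.assoc, Category.assoc, pullback.condition, ← Category.assoc, q.fiber_fac s', Category.assoc,
        residue_fac g (show g s' = s from rfl), Category.assoc])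
  have sq : IsPullback j (q.fiberToSpecResidueField s') (f.fiberToSpecResidueField s) a := by
    refine IsPullback.of_right (h₁₂ := f.fiberι s) (h₂₂ := S.fromSpecResidueField s) (v₁₃ := f) ?_
      (pullback.lift_snd _ _ _) (IsPullback.of_hasPullback f (S.fromSpecResidueField s))
    rw [show j ≫ f.fiberι s = q.fiberι s' ≫ pullback.fst f g from pullback.lift_fst _ _ _,
      ← residue_fac g (show g s' = s from rfl)]
    exact (IsPullback.of_hasPullback q (S'.fromSpecResidueField s')).paste_horiz (IsPullback.of_hasPullback f g)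
  let k := S.residueField s
  let K := S'.residueField s'
  letI : Algebra k K := ((S.residueFieldCongr (show g s' = s from rfl)).inv ≫ g.residueFieldMap s').hom.toAlgebra
  have hb : Spec.map (CommRingCat.ofHom (algebraMap k K)) = a := by
    show _ = Spec.map (g.residueFieldMap s') ≫ Spec.map (S.residueFieldCongr (show g s' = s from rfl)).inv
    rw [← Spec.map_comp]; rfl
  letI : (f.fiber s).Over (Spec (CommRingCat.of k)) := ⟨f.fiberToSpecResidueField s⟩
  letI : (q.fiber s').Over (Spec (CommRingCat.of K)) := ⟨q.fiberToSpecResidueField s'⟩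
  haveI : LocallyOfFiniteType ((f.fiber s) ↘ Spec (CommRingCat.of k)) :=
    inferInstanceAs (LocallyOfFiniteType (f.fiberToSpecResidueField s))
  haveI : LocallyOfFiniteType ((q.fiber s') ↘ Spec (CommRingCat.of K)) :=
    inferInstanceAs (LocallyOfFiniteType (q.fiberToSpecResidueField s'))
  let W := Curv2.bc k (f.fiber s) K
  letI : W.Over (Spec (CommRingCat.of K)) := ⟨Curv2.bcSnd k (f.fiber s) K⟩
  haveI : LocallyOfFiniteType (W ↘ Spec (CommRingCat.of K)) :=
    inferInstanceAs (LocallyOfFiniteType (pullback.snd ((f.fiber s) ↘ Spec (CommRingCat.of k))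
      (Spec.map (CommRingCat.ofHom (algebraMap k K)))))
  have sq' : IsPullback j (q.fiberToSpecResidueField s') ((f.fiber s) ↘ Spec (CommRingCat.of k))
      (Spec.map (CommRingCat.ofHom (algebraMap k K))) := by
    rw [hb]; exact sq
  let φ : q.fiber s' ⟶ W := sq'.isoPullback.hom
  have hφ : φ ≫ (W ↘ Spec (CommRingCat.of K)) = (q.fiber s') ↘ Spec (CommRingCat.of K) :=
    sq'.isoPullback_hom_snd
  have h := nodal_bc k (f.fiber s) K (hfib s).1 (hfib s).2
  exact ⟨components_dim (k := K) φ hφ h.1, atWorstNodal_of_etale (k := K) φ hφ h.2⟩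

end Groth.Agent.NodalLib
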