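import Groth.Agent.NodalLib.CritODP
import Groth.Agent.H23.GysinLen
import Groth.Agent.SmoothReg.Scheme
import Groth.Agent.SchTop.Closed
import Groth.Agent.FibDim.BaseField
import Groth.Agent.S2155
import Groth.Agent.GeomConn5.Point
import Groth.Agent.FibFlatMod.Constr

/-!
# Ordinary double points under extensions of algebraically closed fields
-/

set_option autoImplicit false
set_option linter.style.haveILetI false
set_option linter.unusedSectionVars false
set_option backward.isDefEq.respectTransparency false
set_option backward.isDefEq.respectTransparency.types false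
set_option maxHeartbeats 1000000

universe u

open CategoryTheory CategoryTheory.Limits AlgebraicGeometry IsLocalRing

noncomputable section

namespace Groth.Agent.NodalLib

section Reduced

variable {K : Type u} [Field K]

local notation "P" => MvPowerSeries (Fin 2) K

/-- Restriction of a power series to one axis. -/
def axis (i : Fin 2) : P →+* PowerSeries K where
  toFun f := PowerSeries.mk fun n => MvPowerSeries.coeff (Finsupp.single i n) f
  map_zero' := by ext n; simp
  map_one' := by
    classical
    ext n
    simp [PowerSeries.coeff_one, MvPowerSeries.coeff_one, Finsupp.single_eq_zero]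
  map_add' f g := by ext n; simp
  map_mul' f g := by
    classical
    ext n
    rw [PowerSeries.coeff_mul, PowerSeries.coeff_mk, MvPowerSeries.coeff_mul, Finsupp.antidiagonal_single,
      Finset.sum_map]
    refine Finset.sum_congr rfl fun a _ => ?_
    simp

instance isReduced_model : _root_.IsReduced
    (P ⧸ Ideal.span {(MvPowerSeries.X 0 * MvPowerSeries.X 1 : P)}) := by
  classical
  refine (Ideal.isRadical_iff_quotient_reduced _).1 fun f hf => ?_
  obtain ⟨k, hk⟩ := hf
  have h0 : ∀ i : Fin 2, axis i f = 0 := fun i => by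
    refine pow_eq_zero_iff'.1 (?_ : axis i f ^ k = 0) |>.1
    rw [← map_pow]
    obtain ⟨c, hc⟩ := Ideal.mem_span_singleton'.1 hk
    rw [← hc, map_mul, map_mul]
    have hz : ∀ j, j ≠ i → axis i (MvPowerSeries.X j : P) = 0 := fun j hj => by
      ext n
      show PowerSeries.coeff n (PowerSeries.mk fun n => MvPowerSeries.coeff (Finsupp.single i n) (MvPowerSeries.X j : P)) = _
      rw [PowerSeries.coeff_mk, MvPowerSeries.coeff_X, if_neg, map_zero]
      intro h
      exact hj (((Finsupp.single_eq_single_iff _ _ _ _).1 h).resolve_right (by simp)).1.symm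
    fin_cases i
    · rw [hz 1 (by decide), mul_zero, mul_zero]
    · rw [hz 0 (by decide), zero_mul, mul_zero]
  have hcoe : ∀ (i : Fin 2) n, MvPowerSeries.coeff (Finsupp.single i n) f = 0 := fun i n => by
    have := congrArg (PowerSeries.coeff n) (h0 i)
    rwa [map_zero, axis, RingHom.coe_mk, MonoidHom.coe_mk, OneHom.coe_mk, PowerSeries.coeff_mk] at this
  obtain ⟨g, rfl⟩ : (MvPowerSeries.X 1 : P) ∣ f := MvPowerSeries.X_dvd_iff.2 fun d hd => by
    have : d = Finsupp.single 0 (d 0) := by
      ext j; fin_cases j <;> simp [hd]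
    rw [this]; exact hcoe 0 _
  obtain ⟨w, rfl⟩ : (MvPowerSeries.X 0 : P) ∣ g := MvPowerSeries.X_dvd_iff.2 fun d hd => by
    have hd' : d = Finsupp.single 1 (d 1) := by
      ext j; fin_cases j <;> simp [hd]
    have h := hcoe 1 (d 1 + 1)
    rwa [add_comm, Finsupp.single_add, ← hd', MvPowerSeries.X,
      MvPowerSeries.coeff_add_monomial_mul, one_mul] at h
  exact Ideal.mem_span_singleton.2 ⟨w, by ring⟩

theorem isReduced_of_isOrdDoublePt {A : Type u} [CommRing A] [IsLocalRing A] [IsNoetherianRing A] [Algebra K A]
    (h : Curv2.IsOrdDoublePt K A) : _root_.IsReduced A := by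
  obtain ⟨e, -⟩ := h
  haveI : _root_.IsReduced (AdicCompletion (maximalIdeal A) A) := isReduced_of_injective e.toRingHom e.injective
  haveI : Module.FaithfullyFlat A (AdicCompletion (maximalIdeal A) A) :=
    Module.FaithfullyFlat.of_flat_of_isLocalHom
  exact isReduced_of_injective (algebraMap A (AdicCompletion (maximalIdeal A) A))
    (FaithfulSMul.algebraMap_injective A _)

end Reduced

variable (k : Type u) [Field k] [IsAlgClosed k] (W : Scheme.{u}) [W.Over (Spec (CommRingCat.of k))]
  [LocallyOfFiniteType (W ↘ Spec (CommRingCat.of k))] (K : Type u) [Field K] [IsAlgClosed K] [Algebra k K]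
  (v : Curv2.bc k W K)

private abbrev str := W ↘ Spec (CommRingCat.of k)
private abbrev gK := Spec.map (CommRingCat.ofHom (algebraMap k K))

/-- Over a closed point the maximal ideal generates the maximal ideal. -/
theorem map_maximalIdeal_bcFst (hw : IsClosed ({Curv2.bcFst k W K v} : Set W)) :
    (maximalIdeal (W.presheaf.stalk (Curv2.bcFst k W K v))).map ((Curv2.bcFst k W K).stalkMap v).hom =
      maximalIdeal ((Curv2.bc k W K).presheaf.stalk v) := by
  let f := Curv2.bcFst k W K
  let w := f v
  let i := W.fromSpecResidueField w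
  haveI : IsClosedImmersion i := isClosed_singleton_iff_isClosedImmersion.mp hw
  have hi : IsIso (i ≫ str k W) := by
    rw [GeomConn5.spec_resMap]
    have : IsIso (CommRingCat.ofHom (Curv2.resMap k W w)) :=
      inferInstanceAs (IsIso (RingEquiv.ofBijective (Curv2.resMap k W w)
        ⟨(Curv2.resMap k W w).injective, CurveSection.surjective_resMap k hw⟩).toCommRingCatIso.hom)
    infer_instance
  obtain ⟨z, hz⟩ : ∃ z : ↥(pullback f i), pullback.fst f i z = v := by
    obtain ⟨z, hz, -⟩ := Scheme.Pullback.exists_preimage_pullback (f := f) (g := i) v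
      (IsLocalRing.closedPoint (W.residueField w)) (Scheme.fromSpecResidueField_apply w _).symm
    exact ⟨z, hz⟩
  have e := H23.GysinPb.fibreLen_snd f i z
  rw [hz] at e
  -- the fibre is the spectrum of the big field
  let q : pullback f i ⟶ Spec (CommRingCat.of K) := pullback.fst f i ≫ Curv2.bcSnd k W K
  haveI : IsIso q := by
    have h : IsPullback (pullback.snd f i) q (i ≫ str k W) (gK k K) := by
      have h1 := (IsPullback.of_hasPullback f i).flip
      have h2 : IsPullback f (Curv2.bcSnd k W K) (str k W) (gK k K) := IsPullback.of_hasPullback _ _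
      exact h1.paste_vert h2
    exact h.isIso_snd_of_isIso
  haveI : IsReduced (pullback f i) := isReduced_of_isOpenImmersion q
  haveI : Subsingleton ↥(pullback f i) := q.homeomorph.injective.subsingleton
  have hfield : IsField ((pullback f i).presheaf.stalk z) := by
    haveI : Subsingleton ↥(Spec (CommRingCat.of K)) := inferInstanceAs (Subsingleton (PrimeSpectrum K))
    have : IsIso (q.stalkMap z) := inferInstance
    exact (asIso (q.stalkMap z)).commRingCatIsoToRingEquiv.symm.toMulEquiv.isField
      (FibFlatMod.isField_stalk_generic (Subsingleton.elim _ _))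
  have hlen : H23.FiniteFibreSum.fibreLen (pullback.snd f i) z = 1 := by
    unfold H23.FiniteFibreSum.fibreLen
    rw [show (maximalIdeal ((Spec (W.residueField w)).presheaf.stalk (pullback.snd f i z))).map
        ((pullback.snd f i).stalkMap z).hom = maximalIdeal ((pullback f i).presheaf.stalk z) from ?_]
    · exact ell_maximal
    rw [(IsLocalRing.isField_iff_maximalIdeal_eq).1 hfield, eq_bot_iff]
    refine le_trans (IsLocalRing.map_maximalIdeal_le _) ?_
    rw [(IsLocalRing.isField_iff_maximalIdeal_eq).1 hfield]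
  rw [hlen] at e
  let I := (maximalIdeal (W.presheaf.stalk w)).map (f.stalkMap v).hom
  have hI : I ≤ maximalIdeal _ := IsLocalRing.map_maximalIdeal_le _
  show I = _
  by_contra hne
  have hI1 : Module.length ((Curv2.bc k W K).presheaf.stalk v) (_ ⧸ I) = 1 := e.symm
  haveI : IsSimpleModule ((Curv2.bc k W K).presheaf.stalk v) (_ ⧸ I) := Module.length_eq_one_iff.1 hI1
  exact hne (IsLocalRing.eq_maximalIdeal ⟨isSimpleModule_iff_isCoatom.1 this⟩)

theorem exists_sub_mem_of_closed {k : Type u} [Field k] [IsAlgClosed k] {X : Scheme.{u}}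
    [X.Over (Spec (CommRingCat.of k))] [LocallyOfFiniteType (X ↘ Spec (CommRingCat.of k))] {x : X}
    (hx : IsClosed ({x} : Set X)) :
    letI := Curv2.stalkAlgebra k X x
    ∀ a : X.presheaf.stalk x, ∃ c : k, a - algebraMap k (X.presheaf.stalk x) c ∈ maximalIdeal (X.presheaf.stalk x) :=
  fun a => CurveSection.exists_stalkMap_sub_mem k hx a

theorem isClosed_bc (hw : IsClosed ({Curv2.bcFst k W K v} : Set W)) :
    IsClosed ({v} : Set (Curv2.bc k W K)) := by
  letI : (Curv2.bc k W K).Over (Spec (CommRingCat.of K)) := ⟨Curv2.bcSnd k W K⟩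
  haveI : LocallyOfFiniteType ((Curv2.bc k W K) ↘ Spec (CommRingCat.of K)) :=
    inferInstanceAs (LocallyOfFiniteType (pullback.snd (str k W) (gK k K)))
  rw [isClosed_iff_rd_eq_zero (k := K)]
  have h0 := FibDim.rd_baseChange_le (IsPullback.of_hasPullback (str k W) (gK k K)) v
  rw [(isClosed_iff_rd_eq_zero (k := k) _).1 hw] at h0
  exact Nat.le_zero.1 h0

/-- Ordinary double points are invariant under extensions of algebraically closed fields. -/
theorem isOrdDoublePt_bc_iff (hw : IsClosed ({Curv2.bcFst k W K v} : Set W)) :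
    (letI := Curv2.stalkAlgebra k W (Curv2.bcFst k W K v);
      Curv2.IsOrdDoublePt k (W.presheaf.stalk (Curv2.bcFst k W K v))) ↔
    @Curv2.IsOrdDoublePt K _ ((Curv2.bc k W K).presheaf.stalk v) _
      (@Curv2.stalkAlgebra K _ (Curv2.bc k W K) ⟨Curv2.bcSnd k W K⟩ v) _ := by
  let V := Curv2.bc k W K
  letI : V.Over (Spec (CommRingCat.of K)) := ⟨Curv2.bcSnd k W K⟩
  haveI : LocallyOfFiniteType (V ↘ Spec (CommRingCat.of K)) :=
    inferInstanceAs (LocallyOfFiniteType (pullback.snd (str k W) (gK k K)))
  haveI : IsLocallyNoetherian W := LocallyOfFiniteType.isLocallyNoetherian (str k W)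
  haveI : IsLocallyNoetherian V := LocallyOfFiniteType.isLocallyNoetherian (V ↘ Spec (CommRingCat.of K))
  haveI : Flat (Curv2.bcFst k W K) :=
    MorphismProperty.pullback_fst (str k W) (gK k K) inferInstance
  letI := Curv2.stalkAlgebra k W (Curv2.bcFst k W K v)
  letI := Curv2.stalkAlgebra K V v
  have hv := isClosed_bc k W K v hw
  rw [isOrdDoublePt_iff_crit (exists_sub_mem_of_closed hw),
    isOrdDoublePt_iff_crit (exists_sub_mem_of_closed hv)]
  haveI : IsLocalHom ((Curv2.bcFst k W K).stalkMap v).hom := (Curv2.bcFst k W K).toLRSHom.prop v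
  haveI : IsAlgClosed (ResidueField (W.presheaf.stalk (Curv2.bcFst k W K v))) :=
    IsAlgClosed.of_ringEquiv k _ (RingEquiv.ofBijective (Curv2.resMap k W _)
      ⟨(Curv2.resMap k W _).injective, CurveSection.surjective_resMap k hw⟩)
  have hm := map_maximalIdeal_bcFst k W K v hw
  exact ⟨Crit.map _ (Flat.stalkMap _ v) hm, Crit.comap _ (Flat.stalkMap _ v) hm⟩

/-- Ordinary double points of a base changed curve lie over closed points. -/
theorem isClosed_of_isOrdDoublePt (hdim : topologicalKrullDim W ≤ 1) (hv : IsClosed ({v} : Set (Curv2.bc k W K)))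
    (hodp : @Curv2.IsOrdDoublePt K _ ((Curv2.bc k W K).presheaf.stalk v) _
      (@Curv2.stalkAlgebra K _ (Curv2.bc k W K) ⟨Curv2.bcSnd k W K⟩ v) _) :
    IsClosed ({Curv2.bcFst k W K v} : Set W) := by
  let V := Curv2.bc k W K
  let f := Curv2.bcFst k W K
  let w := f v
  letI : V.Over (Spec (CommRingCat.of K)) := ⟨Curv2.bcSnd k W K⟩
  haveI : LocallyOfFiniteType (V ↘ Spec (CommRingCat.of K)) :=
    inferInstanceAs (LocallyOfFiniteType (pullback.snd (str k W) (gK k K)))
  haveI : IsLocallyNoetherian W := LocallyOfFiniteType.isLocallyNoetherian (str k W)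
  haveI : IsLocallyNoetherian V := LocallyOfFiniteType.isLocallyNoetherian (V ↘ Spec (CommRingCat.of K))
  haveI : Flat f := MorphismProperty.pullback_fst (str k W) (gK k K) inferInstance
  letI := Curv2.stalkAlgebra K V v
  obtain ⟨x, y, hspan, hxy, hl⟩ := (isOrdDoublePt_iff_crit (exists_sub_mem_of_closed hv)).1 hodp
  by_contra hw
  haveI hredV : _root_.IsReduced (V.presheaf.stalk v) := isReduced_of_isOrdDoublePt hodp
  haveI : _root_.IsReduced (W.presheaf.stalk w) := by
    haveI : IsLocalHom (f.stalkMap v).hom := f.toLRSHom.prop v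
    have hflat : (f.stalkMap v).hom.Flat := Flat.stalkMap f v
    refine isReduced_of_injective (f.stalkMap v).hom ?_
    algebraize [(f.stalkMap v).hom]
    haveI : IsLocalHom (algebraMap (W.presheaf.stalk (f v)) (V.presheaf.stalk v)) := f.toLRSHom.prop v
    haveI : Module.FaithfullyFlat (W.presheaf.stalk (f v)) (V.presheaf.stalk v) :=
      Module.FaithfullyFlat.of_flat_of_isLocalHom
    exact FaithfulSMul.algebraMap_injective (W.presheaf.stalk (f v)) (V.presheaf.stalk v)
  -- a non-closed point is generic
  have hdim0 : ringKrullDim (W.presheaf.stalk w) ≤ 0 := by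
    obtain ⟨z, hz, hzw⟩ : ∃ z, w ⤳ z ∧ z ≠ w := by
      by_contra hcon
      push Not at hcon
      exact hw (closure_eq_iff_isClosed.1 (Set.eq_singleton_iff_unique_mem.2
        ⟨subset_closure rfl, fun z hz => hcon z (specializes_iff_mem_closure.2 hz)⟩))
    have hlt : z < w := lt_of_le_not_ge hz fun h => hzw (Specializes.antisymm h hz).eq
    rw [ringKrullDim_stalk_eq_coheight]
    have h1 := (SchTop.ringKrullDim_stalk_le z).trans hdim
    rw [ringKrullDim_stalk_eq_coheight] at h1
    have h2 := Order.coheight_add_one_le hlt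
    have h3 : Order.coheight z ≤ 1 := by exact_mod_cast h1
    have h4 : Order.coheight w = 0 := by
      have := h2.trans h3
      generalize Order.coheight w = n at this ⊢
      match n with
      | ⊤ => simp at this
      | (n : ℕ) => norm_cast at this ⊢; omega
    rw [h4]
    rfl
  have hfield : IsField (W.presheaf.stalk w) := by
    haveI : Ring.KrullDimLE 0 (W.presheaf.stalk w) := Ring.krullDimLE_iff.2 hdim0
    exact Ring.KrullDimLE.isField_of_isReduced
  have hsm : w ∈ (str k W).smoothLocus := by
    rw [SmoothReg.mem_smoothLocus_iff_isRegularLocalRing]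
    letI := hfield.toField
    infer_instance
  haveI : LocallyOfFinitePresentation (pullback.snd (str k W) (gK k K)) :=
    MorphismProperty.pullback_snd _ _ inferInstance
  have hsv : v ∈ (pullback.snd (str k W) (gK k K)).smoothLocus := by
    rw [S2155.result _ _ _ _ (IsPullback.of_hasPullback (str k W) (gK k K)) (Or.inr inferInstance)]
    exact hsm
  haveI hreg := (SmoothReg.mem_smoothLocus_iff_isRegularLocalRing (Curv2.bcSnd k W K) v).1 hsv
  have hV : ringKrullDim (V.presheaf.stalk v) ≤ 1 := by
    refine (SchTop.ringKrullDim_stalk_le v).trans ?_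
    haveI : Subsingleton ↥(Spec (CommRingCat.of k)) := inferInstanceAs (Subsingleton (PrimeSpectrum k))
    haveI : Subsingleton ↥(Spec (CommRingCat.of K)) := inferInstanceAs (Subsingleton (PrimeSpectrum K))
    rw [FibDim.topologicalKrullDim_eq_iSup_rd (pullback.snd (str k W) (gK k K))]
    refine iSup_le fun v' => le_trans ?_ (le_trans (le_iSup_of_le (pullback.fst (str k W) (gK k K) v') le_rfl)
      ((FibDim.topologicalKrullDim_eq_iSup_rd (str k W)).ge.trans hdim))
    exact_mod_cast FibDim.rd_baseChange_le (IsPullback.of_hasPullback (str k W) (gK k K)) v'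
  -- a regular local ring of dimension one is not a node
  have hfin : (maximalIdeal (V.presheaf.stalk v)).spanFinrank ≤ 1 := by
    rw [← hreg.spanFinrank_maximalIdeal] at hV
    exact_mod_cast hV
  obtain ⟨S, hS, hSspan⟩ : ∃ S : Set (V.presheaf.stalk v), S.Subsingleton ∧
      Submodule.span _ S = maximalIdeal (V.presheaf.stalk v) := by
    obtain ⟨S, hS, hSs⟩ := Submodule.FG.exists_span_set_encard_eq_spanFinrank
      (IsNoetherian.noetherian (maximalIdeal (V.presheaf.stalk v)))
    refine ⟨S, Set.encard_le_one_iff_subsingleton.1 ?_, hSs⟩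
    rw [hS]; exact_mod_cast hfin
  obtain ⟨t, ht⟩ : ∃ t, maximalIdeal (V.presheaf.stalk v) = Ideal.span {t} := by
    rcases hS.eq_empty_or_singleton with rfl | ⟨t, rfl⟩
    · exact ⟨0, by rw [← hSspan]; simp⟩
    · exact ⟨t, hSspan.symm⟩
  have h := (ell_step (J := maximalIdeal (V.presheaf.stalk v) ^ 2) t
    (I := maximalIdeal (V.presheaf.stalk v)) (by
      refine le_antisymm ?_ (sup_le (Ideal.pow_le_self two_ne_zero) ht.ge)
      conv_lhs => rw [ht]
      exact le_sup_right) (fun a ha => by
      rw [sq]
      exact Ideal.mul_mem_mul ha (ht ▸ Ideal.mem_span_singleton_self t))).1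
  rw [hl 1, ell_maximal] at h
  norm_cast at h

end Groth.Agent.NodalLib
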