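import Groth.Agent.NodalLib.Etale
import Groth.Agent.ConsPropLib.Fibre

/-!
# Nodal families are etale local on the source
-/

set_option autoImplicit false
set_option linter.style.haveILetI false
set_option linter.unusedSectionVars false
set_option backward.isDefEq.respectTransparency false
set_option backward.isDefEq.respectTransparency.types false

universe u

open CategoryTheory CategoryTheory.Limits AlgebraicGeometry TopologicalSpace

noncomputable section

namespace Groth.Agent.NodalLib

section Local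

variable {k : Type u} [Field k] {X Y : Scheme.{u}} [X.Over (Spec (CommRingCat.of k))]
  [Y.Over (Spec (CommRingCat.of k))] [LocallyOfFiniteType (X ↘ Spec (CommRingCat.of k))]
  [LocallyOfFiniteType (Y ↘ Spec (CommRingCat.of k))]
  (h : Y ⟶ X) [Etale h] (hh : h ≫ (X ↘ Spec (CommRingCat.of k)) = Y ↘ Spec (CommRingCat.of k))

include hh in
/-- A closed point in the image of an etale map from an at worst nodal scheme is good. -/
theorem good_of_image (hY : Curv2.AtWorstNodal k Y) (y : Y) (hy : IsClosed ({h y} : Set X)) :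
    (∃ U : X.Opens, h y ∈ U ∧ Smooth (U.ι ≫ (X ↘ Spec (CommRingCat.of k)))) ∨ Curv2.IsNode k X (h y) := by
  rcases hY y ((isClosed_map_iff h hh y).1 hy) with ⟨U, hU, hsm⟩ | hn
  · exact Or.inl (exists_smooth_of_etale h hh y U hU hsm)
  · exact Or.inr ((isNode_iff h hh y).2 hn)

include hh in
/-- A generic point in the image of an etale map keeps the dimension. -/
theorem deg_of_image (hY : ∀ Z ∈ irreducibleComponents (Y : Type u), topologicalKrullDim Z = 1) (w : Y)
    (hw : ∀ x, x ⤳ h w → x = h w) : topologicalKrullDim (closure ({h w} : Set X)) = 1 := by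
  haveI : LocallyQuasiFinite h := AlgStLib.locallyQuasiFinite_of_unr h
  have hmax : ∀ z, z ⤳ w → z = w := fun z hz => by
    have h1 := hw (h z) (hz.map h.continuous)
    haveI : DiscreteTopology ↥(h ⁻¹' {h w}) :=
      isDiscrete_iff_discreteTopology.1 (h.isDiscrete_preimage_singleton (h w))
    have h2 : (⟨z, h1⟩ : ↥(h ⁻¹' {h w})) ⤳ ⟨w, rfl⟩ := (subtype_specializes_iff _ _).2 hz
    exact congrArg Subtype.val h2.eq
  have hd := hY _ (VarDim.closure_mem_irreducibleComponents hmax)
  rw [VarDim.topologicalKrullDim_closure_singleton (Y ↘ Spec (CommRingCat.of k)),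
    VarDim.deg_eq_add h (X ↘ Spec (CommRingCat.of k)) hh, ← DimFormula.rd_eq_fdeg,
    FibDim.rd_eq_zero_of_quasiFinite, add_zero] at hd
  rw [VarDim.topologicalKrullDim_closure_singleton (X ↘ Spec (CommRingCat.of k))]
  exact hd

end Local

variable {X Y S : Scheme.{u}}

/-- The map of fibres induced by a map over the base. -/
theorem exists_fibre_map (f : X ⟶ S) (g : Y ⟶ X) [Etale g] (s : S) :
    ∃ h : (g ≫ f).fiber s ⟶ f.fiber s, Etale h ∧
      h ≫ f.fiberToSpecResidueField s = (g ≫ f).fiberToSpecResidueField s ∧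
      h ≫ f.fiberι s = (g ≫ f).fiberι s ≫ g := by
  refine ⟨MoreMor.fiberMap g f s, ?_, ConsPropLib.fiberMap_comp_toSpec g f s, ConsPropLib.fiberMap_comp_ι g f s⟩
  refine MorphismProperty.of_isPullback (P := @Etale) (IsPullback.of_bot ?_
    (ConsPropLib.fiberMap_comp_ι g f s).symm (IsPullback.of_hasPullback f (S.fromSpecResidueField s))) (inferInstance : Etale g)
  have := IsPullback.of_hasPullback (g ≫ f) (S.fromSpecResidueField s)
  rw [show MoreMor.fiberMap g f s ≫ pullback.snd f (S.fromSpecResidueField s) =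
      pullback.snd (g ≫ f) (S.fromSpecResidueField s) from ConsPropLib.fiberMap_comp_toSpec g f s]
  exact this

/-- Composition with an etale map preserves nodal families. -/
theorem isNodalFamily_comp (f : X ⟶ S) (hf : Curv2.IsNodalFamily f) (g : Y ⟶ X) [Etale g] :
    Curv2.IsNodalFamily (g ≫ f) := by
  obtain ⟨hfl, hfp, hfib⟩ := hf
  refine ⟨inferInstance, inferInstance, fun s => ?_⟩
  obtain ⟨h, he, hh, -⟩ := exists_fibre_map f g s
  letI : (f.fiber s).Over (Spec (CommRingCat.of (S.residueField s))) := ⟨f.fiberToSpecResidueField s⟩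
  letI : ((g ≫ f).fiber s).Over (Spec (CommRingCat.of (S.residueField s))) := ⟨(g ≫ f).fiberToSpecResidueField s⟩
  haveI : LocallyOfFiniteType ((f.fiber s) ↘ Spec (CommRingCat.of (S.residueField s))) :=
    inferInstanceAs (LocallyOfFiniteType (f.fiberToSpecResidueField s))
  haveI : LocallyOfFiniteType (((g ≫ f).fiber s) ↘ Spec (CommRingCat.of (S.residueField s))) :=
    inferInstanceAs (LocallyOfFiniteType ((g ≫ f).fiberToSpecResidueField s))
  exact ⟨components_dim (k := S.residueField s) h hh (hfib s).1,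
    atWorstNodal_of_etale (k := S.residueField s) h hh (hfib s).2⟩

/-- Nodal families are etale local on the source. -/
theorem isNodalFamily_of_cover {ι : Type*} {U : ι → Scheme.{u}} (f : X ⟶ S) [Flat f]
    [LocallyOfFinitePresentation f] (g : ∀ i, U i ⟶ X) [∀ i, Etale (g i)]
    (hg : ∀ x : X, ∃ i, ∃ u : U i, g i u = x) (hU : ∀ i, Curv2.IsNodalFamily (g i ≫ f)) :
    Curv2.IsNodalFamily f := by
  refine ⟨inferInstance, inferInstance, fun s => ?_⟩
  letI : (f.fiber s).Over (Spec (CommRingCat.of (S.residueField s))) := ⟨f.fiberToSpecResidueField s⟩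
  haveI : LocallyOfFiniteType ((f.fiber s) ↘ Spec (CommRingCat.of (S.residueField s))) :=
    inferInstanceAs (LocallyOfFiniteType (f.fiberToSpecResidueField s))
  have key : ∀ x : f.fiber s, ∃ i, ∃ (h : (g i ≫ f).fiber s ⟶ f.fiber s) (y : (g i ≫ f).fiber s),
      Etale h ∧ h ≫ f.fiberToSpecResidueField s = (g i ≫ f).fiberToSpecResidueField s ∧ h y = x := fun x => by
    obtain ⟨i, u, hu⟩ := hg (f.fiberι s x)
    obtain ⟨h, he, hh, hι⟩ := exists_fibre_map f (g i) s
    have h1 : u ∈ Set.range ((g i ≫ f).fiberι s) := by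
      rw [Scheme.Hom.range_fiberι, Set.mem_preimage, Set.mem_singleton_iff, Scheme.Hom.comp_apply, hu]
      have : f.fiberι s x ∈ Set.range (f.fiberι s) := ⟨x, rfl⟩
      rwa [Scheme.Hom.range_fiberι] at this
    obtain ⟨y, hy⟩ := h1
    refine ⟨i, h, y, he, hh, (f.fiberι s).isEmbedding.injective ?_⟩
    rw [← Scheme.Hom.comp_apply, hι, Scheme.Hom.comp_apply, hy, hu]
  refine ⟨fun Z hZ => ?_, fun x hx => ?_⟩
  · obtain ⟨x, rfl, hmax⟩ := VarDim.exists_generic_of_component hZ
    obtain ⟨i, h, y, he, hh, rfl⟩ := key x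
    letI : ((g i ≫ f).fiber s).Over (Spec (CommRingCat.of (S.residueField s))) :=
      ⟨(g i ≫ f).fiberToSpecResidueField s⟩
    haveI : LocallyOfFiniteType (((g i ≫ f).fiber s) ↘ Spec (CommRingCat.of (S.residueField s))) := by
      haveI := (hU i).2.1
      exact inferInstanceAs (LocallyOfFiniteType ((g i ≫ f).fiberToSpecResidueField s))
    exact deg_of_image (k := S.residueField s) h hh ((hU i).2.2 s).1 y hmax
  · obtain ⟨i, h, y, he, hh, rfl⟩ := key x
    letI : ((g i ≫ f).fiber s).Over (Spec (CommRingCat.of (S.residueField s))) :=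
      ⟨(g i ≫ f).fiberToSpecResidueField s⟩
    haveI : LocallyOfFiniteType (((g i ≫ f).fiber s) ↘ Spec (CommRingCat.of (S.residueField s))) := by
      haveI := (hU i).2.1
      exact inferInstanceAs (LocallyOfFiniteType ((g i ≫ f).fiberToSpecResidueField s))
    exact good_of_image (k := S.residueField s) h hh ((hU i).2.2 s).2 y hx

end Groth.Agent.NodalLib
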