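import Groth.Agent.NodalLib.BaseField

/-!
# Composing a nodal family with an etale map of bases
-/

set_option autoImplicit false
set_option linter.style.haveILetI false
set_option linter.unusedSectionVars false
set_option backward.isDefEq.respectTransparency false
set_option backward.isDefEq.respectTransparency.types false

universe u

open CategoryTheory CategoryTheory.Limits AlgebraicGeometry TopologicalSpace

noncomputable section

namespace Groth.Agent.NodalLib

variable {X S S' : Scheme.{u}}

/-- The residue field map of an etale morphism is etale. -/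
theorem etale_residueFieldMap (e : S' ⟶ S) [Etale e] (s' : S') : Etale (Spec.map (e.residueFieldMap s')) := by
  haveI : LocallyQuasiFinite e := AlgStLib.locallyQuasiFinite_of_unr e
  haveI : IsFinite (Spec.map (e.residueFieldMap s')) :=
    (IsFinite.SpecMap_iff _).2 (MorLib.GF.finite_residueFieldMap e s')
  haveI : IsIso (pullback.diagonal (S'.fromSpecResidueField s')) := (pullback.isIso_diagonal_iff _).2 inferInstance
  haveI : FormallyUnramified (S'.fromSpecResidueField s') := inferInstance
  haveI : FormallyUnramified (Spec.map (e.residueFieldMap s') ≫ S.fromSpecResidueField (e s')) := by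
    rw [Scheme.Hom.SpecMap_residueFieldMap_fromSpecResidueField]
    exact MorphismProperty.comp_mem _ _ _ (inferInstance : FormallyUnramified (S'.fromSpecResidueField s'))
      (inferInstance : FormallyUnramified e)
  haveI : FormallyUnramified (Spec.map (e.residueFieldMap s')) :=
    FormallyUnramified.of_comp _ (S.fromSpecResidueField (e s'))
  haveI : Flat (Spec.map (e.residueFieldMap s')) := by
    rw [HasRingHomProperty.Spec_iff (P := @Flat)]
    letI := (e.residueFieldMap s').hom.toAlgebra
    exact (inferInstance : Module.Flat (S.residueField (e s')) (S'.residueField s'))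
  haveI : LocallyOfFinitePresentation (Spec.map (e.residueFieldMap s')) :=
    LocallyOfFinitePresentation.iff_locallyOfFiniteType.2 inferInstance
  exact Etale.of_formallyUnramified_of_flat _

theorem residue_fac (e : S' ⟶ S) {s' : S'} {s : S} (hs : e s' = s) :
    S'.fromSpecResidueField s' ≫ e =
      (Spec.map (e.residueFieldMap s') ≫ Spec.map (S.residueFieldCongr hs).inv) ≫ S.fromSpecResidueField s := by
  subst hs
  simp [Scheme.Hom.SpecMap_residueFieldMap_fromSpecResidueField]

/-- Composing a nodal family with an etale map of bases gives a nodal family. -/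
theorem isNodalFamily_etale_base (e : S' ⟶ S) [Etale e] (f : X ⟶ S') (hf : Curv2.IsNodalFamily f) :
    Curv2.IsNodalFamily (f ≫ e) := by
  obtain ⟨hfl, hfp, hfib⟩ := hf
  refine ⟨inferInstance, inferInstance, fun s => ?_⟩
  letI : ((f ≫ e).fiber s).Over (Spec (CommRingCat.of (S.residueField s))) := ⟨(f ≫ e).fiberToSpecResidueField s⟩
  haveI : LocallyOfFiniteType (((f ≫ e).fiber s) ↘ Spec (CommRingCat.of (S.residueField s))) :=
    inferInstanceAs (LocallyOfFiniteType ((f ≫ e).fiberToSpecResidueField s))
  have key : ∀ x : (f ≫ e).fiber s, ∃ (s' : S') (hs : e s' = s) (h : f.fiber s' ⟶ (f ≫ e).fiber s) (y : f.fiber s'),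
      Etale h ∧ h y = x ∧
      h ≫ (f ≫ e).fiberToSpecResidueField s = f.fiberToSpecResidueField s' ≫
        Spec.map (e.residueFieldMap s') ≫ Spec.map (S.residueFieldCongr hs).inv := fun x => by
    let s' := f ((f ≫ e).fiberι s x)
    have hs : e s' = s := by
      have h1 : (f ≫ e).fiberι s x ∈ Set.range ((f ≫ e).fiberι s) := ⟨x, rfl⟩
      rwa [Scheme.Hom.range_fiberι] at h1
    let a := Spec.map (e.residueFieldMap s') ≫ Spec.map (S.residueFieldCongr hs).inv
    haveI := etale_residueFieldMap e s'
    haveI : Etale a := inferInstance
    let j : Spec (S'.residueField s') ⟶ e.fiber s :=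
      pullback.lift (S'.fromSpecResidueField s') a (residue_fac e hs)
    have hj : j ≫ e.fiberToSpecResidueField s = a := pullback.lift_snd _ _ _
    haveI : Etale (j ≫ e.fiberToSpecResidueField s) := by rw [hj]; infer_instance
    haveI : Etale (e.fiberToSpecResidueField s) := MorphismProperty.pullback_snd _ _ inferInstance
    haveI : Etale j := Etale.of_comp j (e.fiberToSpecResidueField s)
    let h : f.fiber s' ⟶ (f ≫ e).fiber s :=
      pullback.lift (f.fiberι s') (f.fiberToSpecResidueField s' ≫ a) (by
        rw [← Category.assoc, f.fiber_fac s', Category.assoc, Category.assoc, residue_fac e hs])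
    have sqF : IsPullback ((f ≫ e).fiberι s) (MoreMor.fiberMap f e s) f (e.fiberι s) := by
      refine IsPullback.of_bot ?_ (ConsPropLib.fiberMap_comp_ι f e s).symm (IsPullback.of_hasPullback e (S.fromSpecResidueField s))
      rw [show MoreMor.fiberMap f e s ≫ pullback.snd e (S.fromSpecResidueField s) =
        pullback.snd (f ≫ e) (S.fromSpecResidueField s) from ConsPropLib.fiberMap_comp_toSpec f e s]
      exact IsPullback.of_hasPullback (f ≫ e) (S.fromSpecResidueField s)
    have hι : h ≫ (f ≫ e).fiberι s = f.fiberι s' := pullback.lift_fst _ _ _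
    have sqj : IsPullback h (f.fiberToSpecResidueField s') (MoreMor.fiberMap f e s) j := by
      refine IsPullback.of_right (h₁₂ := (f ≫ e).fiberι s) (h₂₂ := e.fiberι s) (v₁₃ := f) ?_ ?_ sqF
      · rw [hι, show j ≫ e.fiberι s = S'.fromSpecResidueField s' from pullback.lift_fst _ _ _]
        exact IsPullback.of_hasPullback f (S'.fromSpecResidueField s')
      · refine pullback.hom_ext ?_ ?_
        · rw [Category.assoc, Category.assoc]
          erw [ConsPropLib.fiberMap_comp_ι f e s, pullback.lift_fst, ← Category.assoc, hι]
          exact f.fiber_fac s'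
        · rw [Category.assoc, Category.assoc]
          erw [ConsPropLib.fiberMap_comp_toSpec f e s, pullback.lift_snd, pullback.lift_snd]
    haveI : Etale h := MorphismProperty.of_isPullback sqj.flip inferInstance
    have hy : (f ≫ e).fiberι s x ∈ Set.range (f.fiberι s') := by rw [Scheme.Hom.range_fiberι]; rfl
    obtain ⟨y, hy⟩ := hy
    refine ⟨s', hs, h, y, inferInstance, ((f ≫ e).fiberι s).isEmbedding.injective ?_, pullback.lift_snd _ _ _⟩
    rw [← Scheme.Hom.comp_apply, hι, hy]
  have key2 : ∀ (s' : S') (hs : e s' = s),
      letI : (f.fiber s').Over (Spec (CommRingCat.of (S.residueField s))) :=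
        ⟨f.fiberToSpecResidueField s' ≫ Spec.map (e.residueFieldMap s') ≫ Spec.map (S.residueFieldCongr hs).inv⟩
      (∀ Z ∈ irreducibleComponents (f.fiber s' : Type u), topologicalKrullDim Z = 1) ∧
        Curv2.AtWorstNodal (S.residueField s) (f.fiber s') := fun s' hs => by
    letI : Algebra (S.residueField s) (S'.residueField s') :=
      ((S.residueFieldCongr hs).inv ≫ e.residueFieldMap s').hom.toAlgebra
    haveI := etale_residueFieldMap e s'
    have hb : Spec.map (CommRingCat.ofHom (algebraMap (S.residueField s) (S'.residueField s'))) =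
        Spec.map (e.residueFieldMap s') ≫ Spec.map (S.residueFieldCongr hs).inv := by
      rw [← Spec.map_comp]; rfl
    haveI : Etale (Spec.map (CommRingCat.ofHom (algebraMap (S.residueField s) (S'.residueField s')))) := by
      rw [hb]; infer_instance
    refine ⟨(hfib s').1, ?_⟩
    have h1 := atWorstNodal_restrict (k := S.residueField s) (k' := S'.residueField s')
      (f.fiberToSpecResidueField s') (hfib s').2
    rw [hb] at h1
    exact h1
  refine ⟨fun Z hZ => ?_, fun x hx => ?_⟩
  · obtain ⟨x, rfl, hmax⟩ := VarDim.exists_generic_of_component hZ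
    obtain ⟨s', hs, h, y, he, rfl, hh⟩ := key x
    letI : (f.fiber s').Over (Spec (CommRingCat.of (S.residueField s))) :=
      ⟨f.fiberToSpecResidueField s' ≫ Spec.map (e.residueFieldMap s') ≫ Spec.map (S.residueFieldCongr hs).inv⟩
    haveI := etale_residueFieldMap e s'
    haveI : LocallyOfFiniteType ((f.fiber s') ↘ Spec (CommRingCat.of (S.residueField s))) :=
      inferInstanceAs (LocallyOfFiniteType (f.fiberToSpecResidueField s' ≫ Spec.map (e.residueFieldMap s') ≫
        Spec.map (S.residueFieldCongr hs).inv))
    exact deg_of_image (k := S.residueField s) h hh (key2 s' hs).1 y hmax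
  · obtain ⟨s', hs, h, y, he, rfl, hh⟩ := key x
    letI : (f.fiber s').Over (Spec (CommRingCat.of (S.residueField s))) :=
      ⟨f.fiberToSpecResidueField s' ≫ Spec.map (e.residueFieldMap s') ≫ Spec.map (S.residueFieldCongr hs).inv⟩
    haveI := etale_residueFieldMap e s'
    haveI : LocallyOfFiniteType ((f.fiber s') ↘ Spec (CommRingCat.of (S.residueField s))) :=
      inferInstanceAs (LocallyOfFiniteType (f.fiberToSpecResidueField s' ≫ Spec.map (e.residueFieldMap s') ≫
        Spec.map (S.residueFieldCongr hs).inv))
    exact good_of_image (k := S.residueField s) h hh (key2 s' hs).2 y hx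

end Groth.Agent.NodalLib
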