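import Groth.Agent.NodalLib.Family
import Groth.Agent.MorLib.GeomFibre

/-!
# At worst nodal schemes over a finite separable extension are at worst nodal over the smaller field
-/

set_option autoImplicit false
set_option linter.style.haveILetI false
set_option linter.unusedSectionVars false
set_option backward.isDefEq.respectTransparency false
set_option backward.isDefEq.respectTransparency.types false

universe u

open CategoryTheory CategoryTheory.Limits AlgebraicGeometry TopologicalSpace
open IsLocalRing

noncomputable section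

namespace Groth.Agent.NodalLib

/-- Ordinary double points are insensitive to renaming the base field. -/
theorem isOrdDoublePt_of_semilinear {K K' B : Type u} [Field K] [Field K'] [CommRing B] [IsLocalRing B]
    [Algebra K B] [Algebra K' B] (φ : K ≃+* K') (hφ : ∀ c, algebraMap K B c = algebraMap K' B (φ c))
    (h : Curv2.IsOrdDoublePt K' B) : Curv2.IsOrdDoublePt K B := by
  obtain ⟨f, hf⟩ := h
  let M : MvPowerSeries (Fin 2) K' ≃+* MvPowerSeries (Fin 2) K :=
    RingEquiv.ofRingHom (MvPowerSeries.map φ.symm.toRingHom) (MvPowerSeries.map φ.toRingHom)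
      (by ext a n; simp [MvPowerSeries.coeff_map]) (by ext a n; simp [MvPowerSeries.coeff_map])
  have hI : Ideal.span {(MvPowerSeries.X 0 * MvPowerSeries.X 1 : MvPowerSeries (Fin 2) K)} =
      (Ideal.span {(MvPowerSeries.X 0 * MvPowerSeries.X 1 : MvPowerSeries (Fin 2) K')}).map (M : MvPowerSeries (Fin 2) K' →+* MvPowerSeries (Fin 2) K) := by
    rw [Ideal.map_span, Set.image_singleton]
    congr 2
    simp [M]
  refine ⟨f.trans (Ideal.quotientEquiv _ _ M hI), fun c => ?_⟩
  rw [RingEquiv.trans_apply, hφ, hf, Ideal.quotientEquiv_mk]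
  congr 1
  simp [M]

section Restrict

variable {k k' : Type u} [Field k] [Field k'] {Z : Scheme.{u}} [Algebra k k']

/-- Restriction of scalars along a finite separable extension preserves at worst nodal singularities. -/
theorem atWorstNodal_restrict (q : Z ⟶ Spec (CommRingCat.of k')) [LocallyOfFiniteType q]
    [Etale (Spec.map (CommRingCat.ofHom (algebraMap k k')))]
    (hZ : @Curv2.AtWorstNodal k' _ Z ⟨q⟩) :
    @Curv2.AtWorstNodal k _ Z ⟨q ≫ Spec.map (CommRingCat.ofHom (algebraMap k k'))⟩ := by
  intro x hx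
  letI : Z.Over (Spec (CommRingCat.of k)) := ⟨q ≫ Spec.map (CommRingCat.ofHom (algebraMap k k'))⟩
  rcases hZ x hx with ⟨U, hU, hsm⟩ | hn
  · refine Or.inl ⟨U, hU, ?_⟩
    change Smooth (U.ι ≫ q ≫ Spec.map (CommRingCat.ofHom (algebraMap k k')))
    haveI : Smooth (U.ι ≫ q) := hsm
    rw [← Category.assoc]
    infer_instance
  refine Or.inr ?_
  obtain ⟨hc, xb, hxb, hodp⟩ := hn
  let K := AlgebraicClosure k
  let K' := AlgebraicClosure k'
  let g := Spec.map (CommRingCat.ofHom (algebraMap k K))
  let g' := Spec.map (CommRingCat.ofHom (algebraMap k' K'))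
  haveI : Algebra.IsAlgebraic k k' := by
    have h1 : (algebraMap k k').Etale := by
      have h := (HasRingHomProperty.Spec_iff (P := @Etale)).1 (inferInstance : Etale (Spec.map (CommRingCat.ofHom (algebraMap k k'))))
      exact h
    haveI : Algebra.Etale k k' := RingHom.etale_algebraMap.1 h1
    haveI : Module.Finite k k' := Algebra.FormallyUnramified.finite_of_free k k'
    infer_instance
  haveI : IsScalarTower k k' K' := inferInstance
  haveI : Algebra.IsAlgebraic k K' := Algebra.IsAlgebraic.trans k k' K'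
  haveI : IsAlgClosure k K' := ⟨inferInstance, inferInstance⟩
  let φ : K ≃ₐ[k] K' := IsAlgClosure.equiv k K K'
  let iso : Spec (CommRingCat.of K') ⟶ Spec (CommRingCat.of K) := Spec.map (CommRingCat.ofHom φ.toRingEquiv.toRingHom)
  haveI : IsIso iso := by
    have : IsIso (CommRingCat.ofHom φ.toRingEquiv.toRingHom) :=
      (inferInstanceAs (IsIso φ.toRingEquiv.toCommRingCatIso.hom))
    exact inferInstanceAs (IsIso (Spec.map _))
  have hbase : g' ≫ Spec.map (CommRingCat.ofHom (algebraMap k k')) = iso ≫ g := by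
    rw [← Spec.map_comp, ← Spec.map_comp]
    congr 1
    ext c
    exact (IsScalarTower.algebraMap_apply k k' K' c).symm.trans (φ.commutes c).symm
  let M : pullback q g' ⟶ Curv2.bc k Z K :=
    pullback.lift (pullback.fst q g') (pullback.snd q g' ≫ iso) (by
      rw [Category.assoc, ← hbase, ← pullback.condition_assoc]; rfl)
  haveI : IsOpenImmersion M := by
    let b := Spec.map (CommRingCat.ofHom (algebraMap k k'))
    have h1 : IsOpenImmersion (pullback.mapDesc q g' b) :=
      MorphismProperty.of_isPullback (pullback_map_diagonal_isPullback q g' b) inferInstance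
    let N : pullback (q ≫ b) (g' ≫ b) ⟶ Curv2.bc k Z K :=
      pullback.map _ _ _ _ (𝟙 Z) iso (𝟙 _) (by simp; rfl) (by simp [b, hbase]; rfl)
    have hN : IsIso N := inferInstanceAs (IsIso (pullback.map _ _ _ _ _ _ _ _ _))
    have : M = pullback.mapDesc q g' b ≫ N := by
      refine pullback.hom_ext ?_ ?_ <;> simp [M, N, pullback.mapDesc, pullback.map]
    rw [this]
    infer_instance
  letI oK : (Curv2.bc k Z K).Over (Spec (CommRingCat.of K)) := ⟨Curv2.bcSnd k Z K⟩
  haveI : LocallyOfFiniteType ((Curv2.bc k Z K) ↘ Spec (CommRingCat.of K)) := by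
    haveI : LocallyOfFiniteType (Z ↘ Spec (CommRingCat.of k)) :=
      inferInstanceAs (LocallyOfFiniteType (q ≫ _))
    exact inferInstanceAs (LocallyOfFiniteType (pullback.snd (Z ↘ Spec (CommRingCat.of k)) g))
  have hsnd : M ≫ Curv2.bcSnd k Z K = pullback.snd q g' ≫ iso := pullback.lift_snd _ _ _
  let W := pullback q g'
  letI oW : W.Over (Spec (CommRingCat.of K')) := ⟨pullback.snd q g'⟩
  haveI : LocallyOfFiniteType (W ↘ Spec (CommRingCat.of K')) :=
    inferInstanceAs (LocallyOfFiniteType (pullback.snd q g'))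
  have hc' : IsClosed ({(show W from xb)} : Set W) := by
    refine (isClosed_iff_rd_eq_zero (k := K') (X := W) (show W from xb)).2 ?_
    have h0 : FibDim.rd (pullback.snd q g') (show W from xb) ≤ FibDim.rd q (pullback.fst q g' (show W from xb)) :=
      FibDim.rd_baseChange_le (IsPullback.of_hasPullback q g') _
    have h1 : FibDim.rd q x = 0 :=
      (@isClosed_iff_rd_eq_zero k' _ Z ⟨q⟩ (by exact ‹LocallyOfFiniteType q›) x).1 hc
    rw [show pullback.fst q g' (show W from xb) = x from hxb, h1] at h0
    exact Nat.le_zero.1 h0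
  refine ⟨hx, M xb, ?_, ?_⟩
  · rw [← Scheme.Hom.comp_apply]
    exact (congrArg (fun F : W ⟶ Z => F xb) (pullback.lift_fst _ _ _)).trans hxb
  let a' : Algebra K' (W.presheaf.stalk xb) := Curv2.stalkAlgebra K' W xb
  letI oW' : W.Over (Spec (CommRingCat.of K)) := ⟨pullback.snd q g' ≫ iso⟩
  haveI : LocallyOfFiniteType (W ↘ Spec (CommRingCat.of K)) := by
    haveI : LocallyOfFiniteType iso := inferInstance
    exact inferInstanceAs (LocallyOfFiniteType (pullback.snd q g' ≫ iso))
  refine (isOrdDoublePt_iff (k := K) M hsnd xb hc').2 ?_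
  refine @isOrdDoublePt_of_semilinear K K' (W.presheaf.stalk xb) _ _ _ _ (Curv2.stalkAlgebra K W xb) a' φ.toRingEquiv
    (fun c => ?_) hodp
  show W.presheaf.germ ⊤ xb trivial _ = W.presheaf.germ ⊤ xb trivial _
  congr 1
  show ((pullback.snd q g' ≫ iso).appTop) ((Scheme.ΓSpecIso (CommRingCat.of K)).inv c) =
    (pullback.snd q g').appTop ((Scheme.ΓSpecIso (CommRingCat.of K')).inv (φ c))
  rw [Scheme.Hom.comp_appTop, CommRingCat.comp_apply]
  congr 1
  exact (ConcreteCategory.congr_hom (Scheme.ΓSpecIso_inv_naturality (CommRingCat.ofHom φ.toRingEquiv.toRingHom)) c).symm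

end Restrict

end Groth.Agent.NodalLib
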