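import Groth.Agent.NodalLib.Etale
import Groth.Agent.PSQuad.Hypersurface

/-!
# An intrinsic criterion for ordinary double points

For a Noetherian local `K`-algebra `A` with residue field `K` (algebraically closed for the converse), `A` is an
ordinary double point iff the maximal ideal has two generators whose product lies in its cube and the colengths
of its powers are `1, 3, 5, …`.  The criterion is invariant under flat local maps along which the maximal
ideal generates the maximal ideal.
-/

set_option autoImplicit false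
set_option linter.style.haveILetI false
set_option linter.unusedSectionVars false
set_option backward.isDefEq.respectTransparency false
set_option backward.isDefEq.respectTransparency.types false
set_option maxHeartbeats 1000000

universe u

open IsLocalRing

noncomputable section

namespace Groth.Agent.NodalLib

variable {R : Type u} [CommRing R]

/-- Colength of an ideal. -/
def ell (J : Ideal R) : ℕ∞ := Module.length R (R ⧸ J)

theorem ell_antitone {I J : Ideal R} (h : J ≤ I) : ell I ≤ ell J :=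
  Module.length_le_of_surjective (Submodule.factor h) (Submodule.factor_surjective h)

variable [IsLocalRing R]

theorem ell_maximal : ell (maximalIdeal R) = 1 := by
  haveI : IsSimpleModule R (R ⧸ maximalIdeal R) :=
    isSimpleModule_iff_isCoatom.2 (maximalIdeal.isMaximal R).out
  exact Module.length_eq_one R _

theorem ell_step {I J : Ideal R} (a : R) (hI : I = J ⊔ Ideal.span {a}) (ha : ∀ t ∈ maximalIdeal R, t * a ∈ J) :
    ell J ≤ ell I + 1 ∧ (a ∉ J → ell J = ell I + 1) := by
  by_cases haJ : a ∈ J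
  · have : I = J := by rw [hI, sup_eq_left, Ideal.span_le, Set.singleton_subset_iff]; exact haJ
    subst this
    exact ⟨le_self_add, fun h => absurd haJ h⟩
  have key : ell J = ell I + 1 := by
    have hJI : J ≤ I := hI ▸ le_sup_left
    let f : (R ⧸ maximalIdeal R) →ₗ[R] R ⧸ J :=
      Submodule.liftQ (maximalIdeal R) (LinearMap.toSpanSingleton R (R ⧸ J) (Ideal.Quotient.mk J a)) fun t ht => by
        rw [LinearMap.mem_ker, LinearMap.toSpanSingleton_apply]
        exact (Ideal.Quotient.eq_zero_iff_mem).2 (ha t ht)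
    have hf : Function.Injective f := by
      refine (injective_iff_map_eq_zero _).2 fun x hx => ?_
      obtain ⟨t, rfl⟩ := Submodule.mkQ_surjective (maximalIdeal R) x
      refine (Submodule.Quotient.mk_eq_zero _).2 ?_
      by_contra htm
      apply haJ
      have htu : IsUnit t := by
        by_contra h
        exact htm ((mem_maximalIdeal t).2 h)
      have h1 : t * a ∈ J := (Ideal.Quotient.eq_zero_iff_mem).1 hx
      exact (Ideal.unit_mul_mem_iff_mem J htu).1 h1
    have hex : Function.Exact f (Submodule.factor hJI) := by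
      intro x
      obtain ⟨r, rfl⟩ := Submodule.mkQ_surjective J x
      constructor
      · intro hr
        have hr' : r ∈ I := (Submodule.Quotient.mk_eq_zero _).1 hr
        rw [hI, Submodule.mem_sup] at hr'
        obtain ⟨j, hj, b, hb, rfl⟩ := hr'
        obtain ⟨t, rfl⟩ := Ideal.mem_span_singleton'.1 hb
        refine ⟨Submodule.Quotient.mk t, ?_⟩
        show t • Ideal.Quotient.mk J a = Ideal.Quotient.mk J (j + t * a)
        rw [map_add, (Ideal.Quotient.eq_zero_iff_mem).2 hj, zero_add]
        rfl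
      · rintro ⟨t', ht'⟩
        obtain ⟨t, rfl⟩ := Submodule.mkQ_surjective (maximalIdeal R) t'
        rw [← ht']
        show Submodule.factor hJI (t • Ideal.Quotient.mk J a) = 0
        rw [map_smul]
        have : Submodule.factor hJI (Ideal.Quotient.mk J a) = 0 :=
          (Submodule.Quotient.mk_eq_zero _).2 (hI ▸ Submodule.mem_sup_right (Ideal.mem_span_singleton_self a))
        rw [this, smul_zero]
    rw [ell, Module.length_eq_add_of_exact f _ hf (Submodule.factor_surjective hJI) hex, add_comm]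
    exact congrArg (_ + ·) (show Module.length R (R ⧸ maximalIdeal R) = 1 from ell_maximal)
  exact ⟨key.le, fun _ => key⟩

/-- The criterion: two generators with product in the cube, and colengths `1, 3, 5, …`. -/
def Crit (R : Type u) [CommRing R] [IsLocalRing R] : Prop :=
  ∃ x y : R, Ideal.span {x, y} = maximalIdeal R ∧ x * y ∈ maximalIdeal R ^ 3 ∧
    ∀ n : ℕ, ell (maximalIdeal R ^ (n + 1)) = (2 * n + 1 : ℕ)

section Model

variable {x y : R} (hspan : Ideal.span {x, y} = maximalIdeal R) (hxy : x * y = 0)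
include hspan hxy

theorem pow_eq_of_mul_eq_zero (n : ℕ) :
    maximalIdeal R ^ (n + 1) = Ideal.span {x ^ (n + 1), y ^ (n + 1)} := by
  induction n with
  | zero => rw [zero_add, pow_one, pow_one, pow_one, hspan]
  | succ n ih =>
    rw [pow_succ, ih]
    conv_lhs => rw [← hspan]
    rw [Ideal.span_pair_mul_span_pair,
      show x ^ (n + 1) * y = 0 by rw [pow_succ, mul_assoc, hxy, mul_zero],
      show y ^ (n + 1) * x = 0 by rw [pow_succ, mul_assoc, mul_comm y, hxy, mul_zero], ← pow_succ, ← pow_succ]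
    refine le_antisymm (Ideal.span_le.2 ?_) (Ideal.span_mono ?_)
    · intro z hz
      simp only [Set.mem_insert_iff, Set.mem_singleton_iff] at hz
      rcases hz with rfl | rfl | rfl | rfl
      · exact Ideal.subset_span (by simp)
      · exact zero_mem _
      · exact zero_mem _
      · exact Ideal.subset_span (by simp)
    · intro z hz
      simp only [Set.mem_insert_iff, Set.mem_singleton_iff] at hz ⊢
      rcases hz with rfl | rfl <;> simp

theorem ell_pow_succ (n : ℕ) :
    ell (maximalIdeal R ^ (n + 2)) ≤ ell (maximalIdeal R ^ (n + 1)) + 2 ∧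
    (y ^ (n + 1) ∉ maximalIdeal R ^ (n + 2) →
      x ^ (n + 1) ∉ maximalIdeal R ^ (n + 2) ⊔ Ideal.span {y ^ (n + 1)} →
      ell (maximalIdeal R ^ (n + 2)) = ell (maximalIdeal R ^ (n + 1)) + 2) := by
  set J := maximalIdeal R ^ (n + 2) with hJ
  have hI : maximalIdeal R ^ (n + 1) = (J ⊔ Ideal.span {y ^ (n + 1)}) ⊔ Ideal.span {x ^ (n + 1)} := by
    rw [pow_eq_of_mul_eq_zero hspan hxy n, sup_assoc, ← Ideal.span_union]
    refine le_antisymm (le_sup_of_le_right (Ideal.span_mono ?_)) (sup_le ?_ (Ideal.span_mono ?_))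
    · intro z hz
      simp only [Set.mem_insert_iff, Set.mem_singleton_iff, Set.mem_union] at hz ⊢
      tauto
    · rw [← pow_eq_of_mul_eq_zero hspan hxy n]
      exact Ideal.pow_le_pow_right (by omega)
    · intro z hz
      simp only [Set.mem_insert_iff, Set.mem_singleton_iff, Set.mem_union] at hz ⊢
      tauto
  have hmem : ∀ {z : R}, z ∈ maximalIdeal R ^ (n + 1) → ∀ t ∈ maximalIdeal R, t * z ∈ J := fun {z} hz t ht => by
    rw [hJ, pow_succ' _ (n + 1)]
    exact Ideal.mul_mem_mul ht hz
  have hxm : x ^ (n + 1) ∈ maximalIdeal R ^ (n + 1) :=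
    Ideal.pow_mem_pow (hspan ▸ Ideal.subset_span (by simp)) _
  have hym : y ^ (n + 1) ∈ maximalIdeal R ^ (n + 1) :=
    Ideal.pow_mem_pow (hspan ▸ Ideal.subset_span (by simp)) _
  have s1 := ell_step (y ^ (n + 1)) rfl (J := J) (hmem hym)
  have s2 := ell_step (x ^ (n + 1)) hI (fun t ht => Submodule.mem_sup_left (hmem hxm t ht))
  refine ⟨?_, fun hy hx => ?_⟩
  · calc ell J ≤ ell (J ⊔ Ideal.span {y ^ (n + 1)}) + 1 := s1.1
      _ ≤ ell (maximalIdeal R ^ (n + 1)) + 1 + 1 := by gcongr; exact s2.1
      _ = _ := by rw [add_assoc, one_add_one_eq_two]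
  · rw [s1.2 hy, s2.2 hx, add_assoc, one_add_one_eq_two]

theorem ell_pow_le (n : ℕ) : ell (maximalIdeal R ^ (n + 1)) ≤ (2 * n + 1 : ℕ) := by
  induction n with
  | zero => rw [zero_add, pow_one, ell_maximal]; simp
  | succ n ih =>
    refine (ell_pow_succ hspan hxy n).1.trans ?_
    calc ell (maximalIdeal R ^ (n + 1)) + 2 ≤ ((2 * n + 1 : ℕ) : ℕ∞) + 2 := by gcongr
      _ = _ := by norm_cast

theorem crit_of_mul_eq_zero (hx : ¬ IsNilpotent x) (hy : ¬ IsNilpotent y) : Crit R := by
  refine ⟨x, y, hspan, by rw [hxy]; exact zero_mem _, fun n => ?_⟩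
  induction n with
  | zero => rw [zero_add, pow_one, ell_maximal]; simp
  | succ n ih =>
    have key : ∀ {a b : R}, a * b = 0 → b ∈ maximalIdeal R → Ideal.span {a, b} = maximalIdeal R →
        ¬ IsNilpotent b → ∀ c : R, b ^ (n + 1) - c * a ^ (n + 1) ∉ maximalIdeal R ^ (n + 2) := by
      intro a b hab hbm hsp hb c hc
      apply hb
      refine ⟨n + 2, ?_⟩
      have h1 : b ^ (n + 2) ∈ maximalIdeal R ^ (n + 2) * Ideal.span {b} := by
        have : b ^ (n + 2) = (b ^ (n + 1) - c * a ^ (n + 1)) * b := by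
          rw [sub_mul, ← pow_succ, mul_assoc, pow_succ a n, mul_assoc (a ^ n), hab]; ring
        rw [this]
        exact Ideal.mul_mem_mul hc (Ideal.mem_span_singleton_self b)
      obtain ⟨z, hz, hzb⟩ := Ideal.mem_mul_span_singleton.1 h1
      rw [pow_eq_of_mul_eq_zero hsp hab (n + 1), Ideal.mem_span_pair] at hz
      obtain ⟨s, t, rfl⟩ := hz
      have h2 : (1 - t * b) * b ^ (n + 2) = 0 := by
        linear_combination -hzb + s * a ^ (n + 1) * hab
      have hu : IsUnit (1 - t * b) := by
        exact IsLocalRing.isUnit_one_sub_self_of_mem_nonunits _ (Ideal.mul_mem_left _ t hbm)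
      exact hu.mul_right_eq_zero.1 h2
    have hxm : x ∈ maximalIdeal R := hspan ▸ Ideal.subset_span (by simp)
    have hym : y ∈ maximalIdeal R := hspan ▸ Ideal.subset_span (by simp)
    rw [(ell_pow_succ hspan hxy n).2 ?_ ?_, ih]
    · norm_cast
    · simpa using key hxy hym hspan hy 0
    · intro h
      obtain ⟨w, hw, z, hz, hwz⟩ := Submodule.mem_sup.1 h
      obtain ⟨c, rfl⟩ := Ideal.mem_span_singleton'.1 hz
      refine key (a := y) (b := x) (by rw [mul_comm, hxy]) hxm (by rw [Set.pair_comm, hspan]) hx c ?_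
      rwa [← hwz, add_sub_cancel_right]

end Model

section Transfer

variable {A B : Type u} [CommRing A] [CommRing B] [IsLocalRing A] [IsLocalRing B]
  (φ : A →+* B) [IsLocalHom φ] (hflat : φ.Flat) (hm : (maximalIdeal A).map φ = maximalIdeal B)
include hflat hm

theorem ell_map (J : Ideal A) : ell (J.map φ) = ell J := by
  algebraize [φ]
  haveI : IsLocalHom (algebraMap A B) := ‹IsLocalHom φ›
  have h := IsLocalRing.length_baseChange A B (A ⧸ J)
  rw [show Ideal.map (algebraMap A B) (maximalIdeal A) = maximalIdeal B from hm,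
    show Module.length B (B ⧸ maximalIdeal B) = 1 from ell_maximal, mul_one] at h
  exact ((Algebra.TensorProduct.quotIdealMapEquivTensorQuot B J).toLinearEquiv.length_eq).trans h

theorem map_pow_maximalIdeal (n : ℕ) : (maximalIdeal A ^ n).map φ = maximalIdeal B ^ n := by
  rw [Ideal.map_pow, hm]

theorem Crit.map (h : Crit A) : Crit B := by
  obtain ⟨x, y, hspan, hxy, hl⟩ := h
  refine ⟨φ x, φ y, ?_, ?_, fun n => ?_⟩
  · rw [← Set.image_pair, ← Ideal.map_span, hspan, hm]
  · rw [← map_mul, ← map_pow_maximalIdeal φ hflat hm]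
    exact Ideal.mem_map_of_mem _ hxy
  · rw [← map_pow_maximalIdeal φ hflat hm, ell_map φ hflat hm, hl]

theorem mem_pow_iff (a : A) (n : ℕ) : φ a ∈ maximalIdeal B ^ n ↔ a ∈ maximalIdeal A ^ n := by
  refine ⟨fun h => ?_, fun h => map_pow_maximalIdeal φ hflat hm n ▸ Ideal.mem_map_of_mem _ h⟩
  algebraize [φ]
  haveI : IsLocalHom (algebraMap A B) := ‹IsLocalHom φ›
  haveI : Module.FaithfullyFlat A B := Module.FaithfullyFlat.of_flat_of_isLocalHom
  rw [← Ideal.comap_map_eq_self_of_faithfullyFlat (B := B) (maximalIdeal A ^ n), Ideal.mem_comap]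
  rw [← map_pow_maximalIdeal φ hflat hm n] at h
  exact h

/-- The criterion descends along such maps when the residue field is algebraically closed. -/
theorem Crit.comap [IsNoetherianRing A] [IsAlgClosed (ResidueField A)] (h : Crit B) : Crit A := by
  obtain ⟨X, Y, hspan, hXY, hl⟩ := h
  have hlA : ∀ n, ell (maximalIdeal A ^ (n + 1)) = (2 * n + 1 : ℕ) := fun n => by
    rw [← ell_map φ hflat hm, map_pow_maximalIdeal φ hflat hm, hl]
  have hl1 : ell (maximalIdeal A ^ 2) = (3 : ℕ) := hlA 1
  have hl2 : ell (maximalIdeal A ^ 3) = (5 : ℕ) := hlA 2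
  have hAm : ell (maximalIdeal A) = (1 : ℕ) := by rw [ell_maximal]; simp
  -- no element outside the square has square in the cube
  have hno : ∀ z ∈ maximalIdeal A, z * z ∈ maximalIdeal A ^ 3 → z ∈ maximalIdeal A ^ 2 := by
    intro z hz hzz
    rw [← mem_pow_iff φ hflat hm] at hzz ⊢
    rw [map_mul] at hzz
    have hzB : φ z ∈ maximalIdeal B := hm ▸ Ideal.mem_map_of_mem _ hz
    rw [← hspan, Ideal.mem_span_pair] at hzB
    obtain ⟨α, β, hz'⟩ := hzB
    have hXm : X ∈ maximalIdeal B := hspan ▸ Ideal.subset_span (by simp)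
    have hYm : Y ∈ maximalIdeal B := hspan ▸ Ideal.subset_span (by simp)
    suffices hkey : ∀ {X Y α β : B}, X * Y ∈ maximalIdeal B ^ 3 → Ideal.span {X, Y} = maximalIdeal B →
        (α * X + β * Y) * (α * X + β * Y) ∈ maximalIdeal B ^ 3 → ¬ IsUnit α by
      rw [← hz'] at hzz ⊢
      have ha := hkey hXY hspan hzz
      have hb := hkey (X := Y) (Y := X) (α := β) (β := α) (by rwa [mul_comm]) (by rw [Set.pair_comm, hspan])
        (by rwa [add_comm])
      rw [sq]
      exact add_mem (Ideal.mul_mem_mul ((mem_maximalIdeal α).2 ha) hXm)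
        (Ideal.mul_mem_mul ((mem_maximalIdeal β).2 hb) hYm)
    intro X Y α β hXY hspan hzz hu
    have hXm : X ∈ maximalIdeal B := hspan ▸ Ideal.subset_span (by simp)
    have hYm : Y ∈ maximalIdeal B := hspan ▸ Ideal.subset_span (by simp)
    set J := maximalIdeal B ^ 3 with hJ
    have h1 : α * α * (X * X) + β * β * (Y * Y) ∈ J := by
      have := sub_mem hzz (Ideal.mul_mem_left _ (2 * α * β) hXY)
      convert this using 1
      ring
    have hX2 : X * X ∈ J ⊔ Ideal.span {Y * Y} := by
      refine (Ideal.unit_mul_mem_iff_mem _ (hu.mul hu)).1 ?_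
      rw [show α * α * (X * X) = (α * α * (X * X) + β * β * (Y * Y)) + (-(β * β)) * (Y * Y) by ring]
      exact Submodule.add_mem_sup h1 (Ideal.mem_span_singleton'.2 ⟨_, rfl⟩)
    have hsq : maximalIdeal B ^ 2 = J ⊔ Ideal.span {Y * Y} := by
      refine le_antisymm ?_ (sup_le (Ideal.pow_le_pow_right (by omega)) ?_)
      · rw [sq]
        conv_lhs => rw [← hspan]
        rw [Ideal.span_pair_mul_span_pair, Ideal.span_le]
        intro w hw
        simp only [Set.mem_insert_iff, Set.mem_singleton_iff] at hw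
        rcases hw with rfl | rfl | rfl | rfl
        · exact hX2
        · exact Submodule.mem_sup_left hXY
        · exact Submodule.mem_sup_left (by rwa [mul_comm])
        · exact Submodule.mem_sup_right (Ideal.mem_span_singleton_self _)
      · rw [Ideal.span_le, Set.singleton_subset_iff, sq]
        exact Ideal.mul_mem_mul hYm hYm
    have := (ell_step (J := J) (Y * Y) hsq (fun t ht => by
      rw [hJ, pow_succ']
      exact Ideal.mul_mem_mul ht (by rw [sq]; exact Ideal.mul_mem_mul hYm hYm))).1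
    rw [hl 1, hl 2] at this
    norm_cast at this
  -- two generators of the maximal ideal
  obtain ⟨x, hx, hx2⟩ : ∃ x ∈ maximalIdeal A, x ∉ maximalIdeal A ^ 2 := by
    by_contra! hc
    have h' : maximalIdeal A = maximalIdeal A ^ 2 := le_antisymm hc (Ideal.pow_le_self two_ne_zero)
    have := hl1
    rw [← h', hAm] at this
    norm_cast at this
  have hstep : ∀ a ∈ maximalIdeal A, ∀ t ∈ maximalIdeal A, t * a ∈ maximalIdeal A ^ 2 := fun a ha t ht => by
    rw [sq]; exact Ideal.mul_mem_mul ht ha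
  set I₁ := maximalIdeal A ^ 2 ⊔ Ideal.span {x} with hI₁
  have h1 : ell (maximalIdeal A ^ 2) = ell I₁ + 1 := (ell_step x hI₁ (hstep x hx)).2 hx2
  obtain ⟨y, hy, hy1⟩ : ∃ y ∈ maximalIdeal A, y ∉ I₁ := by
    by_contra! hc
    have h' : maximalIdeal A = I₁ := le_antisymm hc (sup_le (Ideal.pow_le_self two_ne_zero)
      (Ideal.span_le.2 (Set.singleton_subset_iff.2 hx)))
    rw [← h', hl1, hAm] at h1
    norm_cast at h1
  set I₂ := I₁ ⊔ Ideal.span {y} with hI₂
  have h2 : ell I₁ = ell I₂ + 1 :=
    (ell_step y hI₂ fun t ht => Submodule.mem_sup_left (hstep y hy t ht)).2 hy1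
  have hI₂m : maximalIdeal A ≤ I₂ := by
    by_contra hc
    obtain ⟨z, hz, hz2⟩ := SetLike.not_le_iff_exists.1 hc
    have h3 : ell I₂ = ell (I₂ ⊔ Ideal.span {z}) + 1 :=
      (ell_step z rfl fun t ht => Submodule.mem_sup_left (Submodule.mem_sup_left (hstep z hz t ht))).2 hz2
    have h4 : ell (maximalIdeal A) ≤ ell (I₂ ⊔ Ideal.span {z}) := ell_antitone (sup_le (sup_le (sup_le
      (Ideal.pow_le_self two_ne_zero) (Ideal.span_le.2 (Set.singleton_subset_iff.2 hx)))
      (Ideal.span_le.2 (Set.singleton_subset_iff.2 hy))) (Ideal.span_le.2 (Set.singleton_subset_iff.2 hz)))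
    have h5 : ell (I₂ ⊔ Ideal.span {z}) + 1 + 1 + 1 = (3 : ℕ) := by rw [← h3, ← h2, ← h1, hl1]
    have h6 : (4 : ℕ∞) ≤ (3 : ℕ) := by
      rw [← h5, show (4 : ℕ∞) = ell (maximalIdeal A) + 1 + 1 + 1 by rw [hAm]; norm_num]
      gcongr
    norm_cast at h6
  have hxy : Ideal.span {x, y} = maximalIdeal A := by
    refine le_antisymm (Ideal.span_le.2 ?_) (PSQuad.maximalIdeal_le_of_le_sup_sq (hI₂m.trans ?_))
    · intro z hz
      rcases hz with rfl | rfl
      exacts [hx, hy]
    · rw [hI₂, hI₁]
      refine sup_le (sup_le le_sup_right (le_sup_of_le_left (Ideal.span_mono ?_)))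
        (le_sup_of_le_left (Ideal.span_mono ?_)) <;> simp
  -- a relation in degree two
  set J := maximalIdeal A ^ 3 with hJ
  have hstep3 : ∀ a ∈ maximalIdeal A ^ 2, ∀ t ∈ maximalIdeal A, t * a ∈ J := fun a ha t ht => by
    rw [hJ, pow_succ' _ 2]; exact Ideal.mul_mem_mul ht ha
  have hxx : x * x ∈ maximalIdeal A ^ 2 := by rw [sq]; exact Ideal.mul_mem_mul hx hx
  have hxy' : x * y ∈ maximalIdeal A ^ 2 := by rw [sq]; exact Ideal.mul_mem_mul hx hy
  have hyy : y * y ∈ maximalIdeal A ^ 2 := by rw [sq]; exact Ideal.mul_mem_mul hy hy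
  have c1 : x * x ∉ J := fun h => hx2 (hno x hx h)
  by_cases c2 : x * y ∈ J ⊔ Ideal.span {x * x}
  · obtain ⟨j, hj, w, hw, hjw⟩ := Submodule.mem_sup.1 c2
    obtain ⟨a, rfl⟩ := Ideal.mem_span_singleton'.1 hw
    refine ⟨x, y - a * x, ?_, ?_, hlA⟩
    · rw [← hxy]
      refine le_antisymm ?_ ?_ <;> rw [Ideal.span_le] <;> intro z hz <;>
        simp only [Set.mem_insert_iff, Set.mem_singleton_iff] at hz <;>
        rw [SetLike.mem_coe, Ideal.mem_span_pair] <;> rcases hz with hz | hz <;> rw [hz]
      · exact ⟨1, 0, by ring⟩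
      · exact ⟨-a, 1, by ring⟩
      · exact ⟨1, 0, by ring⟩
      · exact ⟨a, 1, by ring⟩
    · rwa [show x * (y - a * x) = j by linear_combination -hjw]
  have c3 : y * y ∈ J ⊔ Ideal.span {x * x} ⊔ Ideal.span {x * y} := by
    by_contra c3
    have e1 := (ell_step (J := J) (x * x) rfl (hstep3 _ hxx)).2 c1
    have e2 := (ell_step (x * y) rfl fun t ht => Submodule.mem_sup_left (hstep3 _ hxy' t ht)).2 c2
    have e3 := (ell_step (y * y) rfl fun t ht =>
      Submodule.mem_sup_left (Submodule.mem_sup_left (hstep3 _ hyy t ht))).2 c3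
    have e4 : ell (maximalIdeal A ^ 2) ≤
        ell (J ⊔ Ideal.span {x * x} ⊔ Ideal.span {x * y} ⊔ Ideal.span {y * y}) :=
      ell_antitone (sup_le (sup_le (sup_le (Ideal.pow_le_pow_right (by omega))
        (Ideal.span_le.2 (Set.singleton_subset_iff.2 hxx))) (Ideal.span_le.2 (Set.singleton_subset_iff.2 hxy')))
        (Ideal.span_le.2 (Set.singleton_subset_iff.2 hyy)))
    have h6 : (6 : ℕ∞) ≤ (5 : ℕ) := by
      rw [← hl2, e1, e2, e3, show (6 : ℕ∞) = ell (maximalIdeal A ^ 2) + 1 + 1 + 1 by rw [hl1]; norm_num]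
      gcongr
    norm_cast at h6
  obtain ⟨j', hj', w', hw', hjw'⟩ := Submodule.mem_sup.1 c3
  obtain ⟨b, rfl⟩ := Ideal.mem_span_singleton'.1 hw'
  obtain ⟨j, hj, w, hw, rfl⟩ := Submodule.mem_sup.1 hj'
  obtain ⟨a, rfl⟩ := Ideal.mem_span_singleton'.1 hw
  -- factor `t² - b t - a`
  obtain ⟨s₁, hs₁⟩ : ∃ s : ResidueField A, s * s - residue A b * s - residue A a = 0 := by
    obtain ⟨s, hs⟩ := IsAlgClosed.exists_root
      (Polynomial.C 1 * Polynomial.X ^ 2 + Polynomial.C (-residue A b) * Polynomial.X + Polynomial.C (-residue A a))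
      (by rw [Polynomial.degree_quadratic (one_ne_zero' (ResidueField A))]; norm_num)
    refine ⟨s, ?_⟩
    simp only [Polynomial.IsRoot, Polynomial.eval_add, Polynomial.eval_mul, Polynomial.eval_pow, Polynomial.eval_C,
      Polynomial.eval_X] at hs
    linear_combination hs
  obtain ⟨r₁, rfl⟩ := residue_surjective s₁
  set r₂ := b - r₁
  have hprod : r₁ * r₂ + a ∈ maximalIdeal A := by
    rw [← residue_eq_zero_iff, map_add, map_mul, map_sub]
    linear_combination -hs₁
  have hmul : (y - r₁ * x) * (y - r₂ * x) ∈ J := by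
    rw [show (y - r₁ * x) * (y - r₂ * x) = j + (r₁ * r₂ + a) * (x * x) by linear_combination -hjw']
    exact add_mem hj (hstep3 _ hxx _ hprod)
  by_cases hd : r₂ - r₁ ∈ maximalIdeal A
  · exfalso
    have hz : y - r₁ * x ∈ maximalIdeal A := sub_mem hy (Ideal.mul_mem_left _ _ hx)
    have hzz : (y - r₁ * x) * (y - r₁ * x) ∈ maximalIdeal A ^ 3 := by
      rw [show (y - r₁ * x) * (y - r₁ * x) = (y - r₁ * x) * (y - r₂ * x) + (r₂ - r₁) * (x * y - r₁ * (x * x)) by ring]
      exact add_mem hmul (hstep3 _ (sub_mem hxy' (Ideal.mul_mem_left _ _ hxx)) _ hd)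
    apply hy1
    rw [show y = (y - r₁ * x) + r₁ * x by ring]
    exact Submodule.add_mem_sup (hno _ hz hzz) (Ideal.mem_span_singleton'.2 ⟨r₁, rfl⟩)
  refine ⟨y - r₁ * x, y - r₂ * x, ?_, hmul, hlA⟩
  obtain ⟨v, hv⟩ : ∃ v, v * (r₂ - r₁) = 1 := by
    have : IsUnit (r₂ - r₁) := by
      by_contra h
      exact hd ((mem_maximalIdeal _).2 h)
    exact this.exists_left_inv
  rw [← hxy]
  refine le_antisymm ?_ ?_ <;> rw [Ideal.span_le] <;> intro z hz <;>
    simp only [Set.mem_insert_iff, Set.mem_singleton_iff] at hz <;>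
    rw [SetLike.mem_coe, Ideal.mem_span_pair] <;> rcases hz with hz | hz <;> rw [hz]
  · exact ⟨-r₁, 1, by ring⟩
  · exact ⟨-r₂, 1, by ring⟩
  · exact ⟨v, -v, by linear_combination hv * x⟩
  · exact ⟨1 + r₁ * v, -(r₁ * v), by linear_combination (r₁ * x) * hv⟩

end Transfer

end Groth.Agent.NodalLib
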