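import Groth.Agent.NodalLib.Crit

/-!
# Ordinary double points and the intrinsic criterion
-/

set_option autoImplicit false
set_option linter.style.haveILetI false
set_option linter.unusedSectionVars false
set_option backward.isDefEq.respectTransparency false
set_option backward.isDefEq.respectTransparency.types false
set_option maxHeartbeats 1000000

universe u

open IsLocalRing

noncomputable section

namespace Groth.Agent.NodalLib

variable {R : Type u} [CommRing R] [IsLocalRing R]

/-- In a complete local ring, generators with product in the cube can be corrected to have product zero. -/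
theorem exists_mul_eq_zero [IsNoetherianRing R] [IsAdicComplete (maximalIdeal R) R] {x y : R}
    (hspan : Ideal.span {x, y} = maximalIdeal R) (hxy : x * y ∈ maximalIdeal R ^ 3) :
    ∃ x' y' : R, Ideal.span {x', y'} = maximalIdeal R ∧ x' * y' = 0 := by
  let St : ℕ → R × R → Prop := fun n s =>
    Ideal.span {s.1, s.2} = maximalIdeal R ∧ s.1 * s.2 ∈ maximalIdeal R ^ (n + 3)
  have hnext : ∀ (n : ℕ) (s : R × R), St n s → ∃ s' : R × R, St (n + 1) s' ∧
      s'.1 - s.1 ∈ maximalIdeal R ^ (n + 2) ∧ s'.2 - s.2 ∈ maximalIdeal R ^ (n + 2) := by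
    rintro n ⟨a, b⟩ ⟨hs, hab⟩
    change Ideal.span {a, b} = _ at hs
    change a * b ∈ _ at hab
    rw [show n + 3 = (n + 2) + 1 from rfl, pow_succ'] at hab
    conv at hab => arg 1; arg 1; rw [← hs]
    rw [Ideal.span_insert, Ideal.sup_mul, Submodule.mem_sup] at hab
    obtain ⟨u, hu, v, hv, huv⟩ := hab
    obtain ⟨p, hp, rfl⟩ := Ideal.mem_span_singleton_mul.1 hu
    obtain ⟨q, hq, rfl⟩ := Ideal.mem_span_singleton_mul.1 hv
    refine ⟨(a - q, b - p), ⟨?_, ?_⟩, ?_, ?_⟩
    · refine le_antisymm ?_ (PSQuad.maximalIdeal_le_of_le_sup_sq ?_)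
      · rw [Ideal.span_le]
        rintro z (hz | hz) <;> rw [hz]
        · exact sub_mem (hs ▸ Ideal.subset_span (by simp)) (Ideal.pow_le_self (by omega) hq)
        · exact sub_mem (hs ▸ Ideal.subset_span (by simp)) (Ideal.pow_le_self (by omega) hp)
      · conv_lhs => rw [← hs]
        rw [Ideal.span_le]
        rintro z (hz | hz) <;> rw [hz]
        · refine Submodule.mem_sup.2 ⟨a - q, Ideal.subset_span (by simp), q, ?_, sub_add_cancel a q⟩
          exact Ideal.pow_le_pow_right (by omega) hq
        · refine Submodule.mem_sup.2 ⟨b - p, Ideal.subset_span (by simp), p, ?_, sub_add_cancel b p⟩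
          exact Ideal.pow_le_pow_right (by omega) hp
    · show (a - q) * (b - p) ∈ _
      rw [show (a - q) * (b - p) = q * p by linear_combination -huv]
      exact Ideal.pow_le_pow_right (by omega) ((pow_add (maximalIdeal R) (n + 2) (n + 2)).symm ▸ Ideal.mul_mem_mul hq hp)
    · show a - q - a ∈ _
      rw [sub_sub_cancel_left]; exact neg_mem hq
    · show b - p - b ∈ _
      rw [sub_sub_cancel_left]; exact neg_mem hp
  choose! next hN1 hN2 hN3 using hnext
  let s : ℕ → R × R := fun n => Nat.rec (x, y) (fun n p => next n p) n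
  have hs : ∀ n, St n (s n) := by
    intro n
    induction n with
    | zero => exact ⟨hspan, hxy⟩
    | succ n ih => exact hN1 n (s n) ih
  have lim : ∀ (f : ℕ → R), (∀ n, f (n + 1) - f n ∈ maximalIdeal R ^ (n + 2)) →
      ∃ L, ∀ n, f n - L ∈ maximalIdeal R ^ n := by
    intro f hf
    have hc : ∀ {m n}, m ≤ n → f m ≡ f n [SMOD (maximalIdeal R ^ m • ⊤ : Submodule R R)] := by
      intro m n hmn
      rw [SModEq.sub_mem, smul_eq_mul, Ideal.mul_top]
      induction hmn with
      | refl => simp
      | @step l hml ih =>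
        rw [← sub_add_sub_cancel (f m) (f l) (f (l + 1))]
        refine add_mem ih (Ideal.pow_le_pow_right (show m ≤ l + 2 from le_add_right hml) ?_)
        rw [← neg_sub]
        exact neg_mem (hf l)
    obtain ⟨L, hL⟩ := IsPrecomplete.prec' (I := maximalIdeal R) f hc
    exact ⟨L, fun n => by simpa [SModEq.sub_mem, smul_eq_mul] using hL n⟩
  obtain ⟨X, hX⟩ := lim (fun n => (s n).1) fun n => hN2 n _ (hs n)
  obtain ⟨Y, hY⟩ := lim (fun n => (s n).2) fun n => hN3 n _ (hs n)
  refine ⟨X, Y, ?_, ?_⟩
  · have h2 := (hs 2).1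
    refine le_antisymm ?_ (PSQuad.maximalIdeal_le_of_le_sup_sq ?_)
    · rw [Ideal.span_le]
      rintro z (hz | hz) <;> rw [hz]
      · rw [show X = (s 2).1 - ((s 2).1 - X) by ring]
        exact sub_mem (h2 ▸ Ideal.subset_span (by simp)) (Ideal.pow_le_self (by omega) (hX 2))
      · rw [show Y = (s 2).2 - ((s 2).2 - Y) by ring]
        exact sub_mem (h2 ▸ Ideal.subset_span (by simp)) (Ideal.pow_le_self (by omega) (hY 2))
    · conv_lhs => rw [← h2]
      rw [Ideal.span_le]
      rintro z (hz | hz) <;> rw [hz]
      · exact Submodule.mem_sup.2 ⟨X, Ideal.subset_span (by simp), _, hX 2, add_sub_cancel X _⟩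
      · exact Submodule.mem_sup.2 ⟨Y, Ideal.subset_span (by simp), _, hY 2, add_sub_cancel Y _⟩
  · refine IsHausdorff.haus (I := maximalIdeal R) (M := R) inferInstance _ fun n => ?_
    rw [SModEq.zero, smul_eq_mul, Ideal.mul_top,
      show X * Y = (s n).1 * (s n).2 - ((s n).1 - X) * (s n).2 - X * ((s n).2 - Y) by ring]
    exact sub_mem (sub_mem (Ideal.pow_le_pow_right (by omega) (hs n).2) (Ideal.mul_mem_right _ _ (hX n)))
      (Ideal.mul_mem_left _ _ (hY n))

section ODP

variable {K : Type u} [Field K]

local notation "P" => MvPowerSeries (Fin 2) K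

local notation "Q" => MvPowerSeries (Fin 2) K ⧸ Ideal.span
  {(MvPowerSeries.X 0 * MvPowerSeries.X 1 : MvPowerSeries (Fin 2) K)}

theorem X_mul_X_mem_vars : (MvPowerSeries.X 0 * MvPowerSeries.X 1 : P) ∈ PSLib.vars 2 K :=
  Ideal.mul_mem_right _ _ (Ideal.subset_span ⟨0, rfl⟩)

instance : IsLocalRing Q := PSQuad.isLocalRing_quot X_mul_X_mem_vars

theorem model_span : Ideal.span {Ideal.Quotient.mk _ (MvPowerSeries.X 0), Ideal.Quotient.mk _ (MvPowerSeries.X 1)}
    = maximalIdeal Q := by
  rw [← map_maximalIdeal_of_surjective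
    (Ideal.Quotient.mk (Ideal.span {(MvPowerSeries.X 0 * MvPowerSeries.X 1 : P)})) Ideal.Quotient.mk_surjective,
    PSLib.maximalIdeal_eq_vars, PSLib.vars, Ideal.map_span, ← Set.range_comp]
  congr 1
  ext z
  simp [Fin.exists_fin_two, eq_comm]

theorem not_isNilpotent_X {i j : Fin 2} (hij : i ≠ j) :
    ¬ IsNilpotent (Ideal.Quotient.mk (Ideal.span {(MvPowerSeries.X i * MvPowerSeries.X j : P)}) (MvPowerSeries.X i)) := by
  classical
  rintro ⟨k, hk⟩
  rw [← map_pow, Ideal.Quotient.eq_zero_iff_mem, Ideal.mem_span_singleton'] at hk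
  obtain ⟨c, hc⟩ := hk
  have h := congrArg (MvPowerSeries.coeff (Finsupp.single i k)) hc
  rw [MvPowerSeries.coeff_X_pow, if_pos rfl, ← mul_assoc] at h
  have hd : (MvPowerSeries.X j : P) ∣ c * MvPowerSeries.X i * MvPowerSeries.X j := dvd_mul_left _ _
  rw [MvPowerSeries.X_dvd_iff] at hd
  rw [hd _ (Finsupp.single_eq_of_ne hij.symm)] at h
  exact zero_ne_one h

theorem crit_model : Crit Q := by
  refine crit_of_mul_eq_zero model_span ?_ (not_isNilpotent_X (by decide)) ?_
  · rw [← map_mul, Ideal.Quotient.eq_zero_iff_mem]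
    exact Ideal.mem_span_singleton_self _
  · rw [mul_comm (MvPowerSeries.X 0 : P)]
    exact not_isNilpotent_X (by decide)

variable {A : Type u} [CommRing A] [IsLocalRing A] [IsNoetherianRing A]

theorem completion_flat : (algebraMap A (AdicCompletion (maximalIdeal A) A)).Flat :=
  RingHom.flat_algebraMap_iff.2 inferInstance

theorem completion_map : (maximalIdeal A).map (algebraMap A (AdicCompletion (maximalIdeal A) A)) =
    maximalIdeal (AdicCompletion (maximalIdeal A) A) := AdicCompletion.maximalIdeal_eq_map.symm

instance : IsLocalHom (algebraMap A (AdicCompletion (maximalIdeal A) A)) :=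
  ((local_hom_TFAE _).out 0 2 rfl rfl).mpr completion_map.le

variable [Algebra K A] (hres : ∀ a : A, ∃ c : K, a - algebraMap K A c ∈ maximalIdeal A)
include hres

/-- An ordinary double point satisfies the criterion, and conversely. -/
theorem isOrdDoublePt_iff_crit [IsAlgClosed K] : Curv2.IsOrdDoublePt K A ↔ Crit A := by
  let C := AdicCompletion (maximalIdeal A) A
  constructor
  · rintro ⟨e, -⟩
    haveI : IsAlgClosed (ResidueField A) := by
      have hb : Function.Bijective ((residue A).comp (algebraMap K A)) := by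
        refine ⟨RingHom.injective _, fun z => ?_⟩
        obtain ⟨a, rfl⟩ := residue_surjective z
        obtain ⟨c, hc⟩ := hres a
        exact ⟨c, (Ideal.Quotient.eq.2 hc).symm⟩
      exact IsAlgClosed.of_ringEquiv K _ (RingEquiv.ofBijective _ hb)
    refine Crit.comap (algebraMap A C) completion_flat completion_map ?_
    haveI : IsLocalHom (e.symm : Q →+* C) := inferInstance
    exact Crit.map (e.symm : Q →+* C) (RingHom.Flat.of_bijective e.symm.bijective)
      (map_maximalIdeal_of_surjective _ e.symm.surjective) crit_model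
  · intro hA
    haveI : IsNoetherianRing C := LC.Canon.isNoetherianRing_completion (R := A)
    haveI : IsAdicComplete (maximalIdeal C) C := NodeLib.isAdicComplete_maximalIdeal A
    obtain ⟨x, y, hspan, hxy, hl⟩ := Crit.map (algebraMap A C) completion_flat completion_map hA
    obtain ⟨X, Y, hXY, hmul⟩ := exists_mul_eq_zero hspan hxy
    have hb : ∀ i : Fin 2, ![X, Y] i ∈ maximalIdeal C := fun i => by
      fin_cases i <;> exact hXY ▸ Ideal.subset_span (by simp)
    obtain ⟨Ψ, hΨ⟩ := PSLib.exists_algHom (R := K) (maximalIdeal C) _ hb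
    have hsurj : Function.Surjective Ψ := by
      refine PSLib.surjective_of_span (K := K) (n := 2) (R := C) ?_ Ψ (fun i => (hΨ i).symm ▸ hb i) ?_
      · intro r
        obtain ⟨z, rfl⟩ := residue_surjective r
        obtain ⟨s, hs⟩ := Adic7.exists_sub_algebraMap_mem (maximalIdeal A) (IsNoetherian.noetherian _) z 1
        rw [pow_one] at hs
        obtain ⟨a, ha⟩ := hres s
        refine ⟨a, ?_⟩
        rw [RingHom.comp_apply, eq_comm, ← sub_eq_zero, ← map_sub, residue_eq_zero_iff,
          show z - algebraMap K C a = (z - algebraMap A C s) + algebraMap A C (s - algebraMap K A a) by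
            rw [map_sub, ← IsScalarTower.algebraMap_apply]; ring]
        exact add_mem (completion_map.le hs) (completion_map.le (Ideal.mem_map_of_mem _ ha))
      · refine le_trans ?_ le_sup_left
        conv_lhs => rw [← hXY]
        refine Ideal.span_mono ?_
        rintro z (hz | hz) <;> rw [hz]
        · exact ⟨0, by simp [hΨ]⟩
        · exact ⟨1, by simp [hΨ]⟩
    let h : P := MvPowerSeries.X 0 * MvPowerSeries.X 1
    have hker : ∀ p ∈ Ideal.span {h}, Ψ p = 0 := fun p hp => by
      obtain ⟨c, rfl⟩ := Ideal.mem_span_singleton'.1 hp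
      simp [h, hΨ, hmul]
    let ψ : Q →ₐ[K] C := Ideal.Quotient.liftₐ _ Ψ hker
    have hψ : Function.Surjective ψ := Ideal.Quotient.lift_surjective_of_surjective _ _ hsurj
    have hinj : Function.Injective ψ := by
      obtain ⟨hN, -, -⟩ := CohenLib.isRegular_complete_mvPowerSeries (Λ := K) (Or.inl (Field.toIsField K)) 2
      haveI : IsNoetherianRing Q := inferInstance
      refine (injective_iff_map_eq_zero _).2 fun q hq => ?_
      have key : ∀ n, q ∈ maximalIdeal Q ^ n := fun n => by
        rcases n with _ | n
        · simp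
        set I := maximalIdeal Q ^ (n + 1)
        have hmap : I.map (ψ : Q →+* C) = maximalIdeal C ^ (n + 1) := by
          rw [Ideal.map_pow, map_maximalIdeal_of_surjective (ψ : Q →+* C) hψ]
        by_contra hqI
        -- colength drops strictly
        let J := I ⊔ RingHom.ker (ψ : Q →+* C)
        have h1 : ell J = ell (maximalIdeal C ^ (n + 1)) := by
          rw [ell, ell, ← hmap]
          let g : Q →+* C ⧸ I.map (ψ : Q →+* C) := (Ideal.Quotient.mk _).comp (ψ : Q →+* C)
          have hg : Function.Surjective g := Ideal.Quotient.mk_surjective.comp hψ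
          have hgk : RingHom.ker g = J := by
            show RingHom.ker ((Ideal.Quotient.mk _).comp (ψ : Q →+* C)) = J
            rw [← RingHom.comap_ker, Ideal.mk_ker, Ideal.comap_map_of_surjective (ψ : Q →+* C) hψ]
            rfl
          letI : Algebra Q C := (ψ : Q →+* C).toAlgebra
          rw [← Module.length_eq_of_surjective (S := Q) (R := C) (M := C ⧸ I.map (ψ : Q →+* C)) hψ]
          let L : Q →ₗ[Q] C ⧸ I.map (ψ : Q →+* C) :=
            (Algebra.linearMap Q (C ⧸ I.map (ψ : Q →+* C)))
          have hL : LinearMap.ker L = J := hgk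
          exact ((Submodule.quotEquivOfEq _ _ hL.symm).trans (L.quotKerEquivOfSurjective hg)).length_eq
        have h2 : ell I ≤ (2 * n + 1 : ℕ) := ell_pow_le model_span (by
          rw [← map_mul, Ideal.Quotient.eq_zero_iff_mem]; exact Ideal.mem_span_singleton_self _) n
        have hIJ : I < J := lt_of_le_of_ne le_sup_left fun he =>
          hqI (he ▸ Submodule.mem_sup_right (RingHom.mem_ker.2 hq))
        have h3 : ell J + 1 ≤ ell I := by
          rw [ell, ell]
          have hex := Module.length_eq_add_of_exact (Submodule.subtype (Submodule.map (Submodule.mkQ I) J))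
            (Submodule.factor (le_sup_left : I ≤ J)) (Submodule.injective_subtype _) (Submodule.factor_surjective _) (by
              intro z
              obtain ⟨r, rfl⟩ := Submodule.mkQ_surjective I z
              constructor
              · intro hr
                exact ⟨⟨_, Submodule.mem_map_of_mem ((Submodule.Quotient.mk_eq_zero _).1 hr)⟩, rfl⟩
              · rintro ⟨⟨w, hw⟩, hw'⟩
                obtain ⟨j, hj, rfl⟩ := Submodule.mem_map.1 hw
                rw [← hw']
                exact (Submodule.Quotient.mk_eq_zero _).2 hj)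
          rw [hex, add_comm]
          gcongr
          refine ENat.one_le_iff_ne_zero.2 ?_
          rw [Ne, Module.length_eq_zero_iff, Submodule.subsingleton_iff_eq_bot]
          intro hbot
          refine hIJ.not_ge fun z hz => ?_
          have := Submodule.mem_map_of_mem (f := Submodule.mkQ I) hz
          rw [hbot] at this
          exact (Submodule.Quotient.mk_eq_zero _).1 this
        rw [h1, hl n] at h3
        have h4 := h3.trans h2
        norm_cast at h4
        omega
      have hbot := Ideal.iInf_pow_eq_bot_of_isLocalRing (maximalIdeal Q) (maximalIdeal.isMaximal Q).ne_top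
      exact (Submodule.mem_bot Q).1 (hbot ▸ Submodule.mem_iInf _ |>.2 key)
    let e := AlgEquiv.ofBijective ψ ⟨hinj, hψ⟩
    refine ⟨e.symm.toRingEquiv, fun c => ?_⟩
    show e.symm (algebraMap A C (algebraMap K A c)) = _
    rw [← IsScalarTower.algebraMap_apply, e.symm.commutes]
    rfl

end ODP

end Groth.Agent.NodalLib
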