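import Groth.Agent.NodalLib.BaseField
import Groth.Agent.GeomConn5.Point

/-! Every point of the geometric base change over a node is an ordinary double point. -/

set_option autoImplicit false
set_option linter.style.haveILetI false
set_option linter.unusedSectionVars false
set_option backward.isDefEq.respectTransparency false
set_option backward.isDefEq.respectTransparency.types false
set_option maxHeartbeats 1000000

universe u
open CategoryTheory CategoryTheory.Limits AlgebraicGeometry

namespace Groth.Agent.NodalLib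

theorem isOrdDoublePt_of_over_node (k : Type u) [Field k] (X : Scheme.{u}) [X.Over (Spec (CommRingCat.of k))]
    [LocallyOfFiniteType (X ↘ (Spec (CommRingCat.of k)))]
    (x : X) (hx : Curv2.IsNode k X x) (xb : Curv2.bc k X (AlgebraicClosure k))
    (hxb : Curv2.bcFst k X (AlgebraicClosure k) xb = x) :
    @Curv2.IsOrdDoublePt (AlgebraicClosure k) _ ((Curv2.bc k X (AlgebraicClosure k)).presheaf.stalk xb) _
      (@Curv2.stalkAlgebra (AlgebraicClosure k) _ (Curv2.bc k X (AlgebraicClosure k)) ⟨Curv2.bcSnd k X (AlgebraicClosure k)⟩ xb) _ := by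
  obtain ⟨hc, xb', hxb', hodp⟩ := hx
  let K := AlgebraicClosure k
  let str := X ↘ Spec (CommRingCat.of k)
  let g := Spec.map (CommRingCat.ofHom (algebraMap k K))
  letI oK : (Curv2.bc k X K).Over (Spec (CommRingCat.of K)) := ⟨Curv2.bcSnd k X K⟩
  haveI : LocallyOfFiniteType ((Curv2.bc k X K) ↘ Spec (CommRingCat.of K)) :=
    inferInstanceAs (LocallyOfFiniteType (pullback.snd str g))
  have hclosed : ∀ z : Curv2.bc k X K, Curv2.bcFst k X K z = x → IsClosed ({z} : Set _) := fun z hz => by
    rw [NodalLib.isClosed_iff_rd_eq_zero (k := K)]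
    have h0 := FibDim.rd_baseChange_le (IsPullback.of_hasPullback str g) z
    rw [hz, (NodalLib.isClosed_iff_rd_eq_zero (k := k) x).1 hc] at h0
    exact Nat.le_zero.1 h0
  have key : ∀ z : Curv2.bc k X K, Curv2.bcFst k X K z = x → ∃ (s : Spec (CommRingCat.of K) ⟶ Curv2.bc k X K)
      (f : X.residueField x ⟶ CommRingCat.of K), s (IsLocalRing.closedPoint K) = z ∧ s ≫ Curv2.bcSnd k X K = 𝟙 _ ∧
      s ≫ Curv2.bcFst k X K = Spec.map f ≫ X.fromSpecResidueField x ∧
      CommRingCat.ofHom (Curv2.resMap k X x) ≫ f = CommRingCat.ofHom (algebraMap k K) := by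
    intro z hz
    let e := residueFieldIsoBase ((Curv2.bc k X K) ↘ Spec (CommRingCat.of K)) z (hclosed z hz)
    let s : Spec (CommRingCat.of K) ⟶ Curv2.bc k X K := Spec.map e.hom ≫ (Curv2.bc k X K).fromSpecResidueField z
    have hsz : s (IsLocalRing.closedPoint K) = z := by
      rw [Scheme.Hom.comp_apply]
      exact Scheme.fromSpecResidueField_apply z _
    have hs : s ≫ Curv2.bcSnd k X K = 𝟙 _ := by
      have h1 : (Curv2.bc k X K).fromSpecResidueField z ≫ Curv2.bcSnd k X K = Spec.map e.inv :=
        (SpecMap_residueFieldIsoBase_inv ((Curv2.bc k X K) ↘ Spec (CommRingCat.of K)) z (hclosed z hz)).symm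
      rw [Category.assoc, h1, ← Spec.map_comp, e.inv_hom_id, Spec.map_id]
    obtain ⟨⟨x', f⟩, hf⟩ := (Scheme.SpecToEquivOfField K X).symm.surjective (s ≫ Curv2.bcFst k X K)
    change Spec.map f ≫ X.fromSpecResidueField x' = s ≫ Curv2.bcFst k X K at hf
    have hx' : x' = x := by
      have h := congrArg (fun F : Spec (CommRingCat.of K) ⟶ X => F (IsLocalRing.closedPoint K)) hf
      simp only [Scheme.Hom.comp_apply, Scheme.fromSpecResidueField_apply] at h
      rw [h, hsz, hz]
    subst hx'
    refine ⟨s, f, hsz, hs, hf.symm, Spec.map_injective ?_⟩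
    rw [Spec.map_comp, ← GeomConn5.spec_resMap x', ← Category.assoc, hf, Category.assoc]
    change s ≫ pullback.fst str g ≫ str = g
    rw [pullback.condition, ← Category.assoc]
    change (s ≫ Curv2.bcSnd k X K) ≫ g = g
    rw [hs, Category.id_comp]
  obtain ⟨s, f, hsz, hs, hsf, hfk⟩ := key xb hxb
  obtain ⟨s', f', hsz', hs', hsf', hfk'⟩ := key xb' hxb'
  letI : Algebra k (X.residueField x) := Curv2.resAlgebra k X x
  let F : X.residueField x →ₐ[k] K :=
    { f.hom with commutes' := fun c => ConcreteCategory.congr_hom hfk c }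
  let F' : X.residueField x →ₐ[k] K :=
    { f'.hom with commutes' := fun c => ConcreteCategory.congr_hom hfk' c }
  haveI : Algebra.IsAlgebraic k (X.residueField x) :=
    Algebra.IsAlgebraic.of_injective F F.toRingHom.injective
  -- an automorphism `σ` of the closure with `σ ∘ f = f'`
  obtain ⟨σ, hσ⟩ : ∃ σ : K ≃ₐ[k] K, ∀ a, σ (F a) = F' a := by
    letI A : Algebra (X.residueField x) K := F.toRingHom.toAlgebra
    haveI : IsScalarTower k (X.residueField x) K :=
      IsScalarTower.of_algebraMap_eq fun c => (F.commutes c).symm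
    exact ⟨AlgEquiv.ofBijective (F'.liftNormal K) (Algebra.IsAlgebraic.algHom_bijective _),
      fun a => AlgHom.liftNormal_commutes F' K a⟩
  let iso : Spec (CommRingCat.of K) ⟶ Spec (CommRingCat.of K) :=
    Spec.map (CommRingCat.ofHom σ.toRingEquiv.toRingHom)
  haveI : IsIso iso := by
    have : IsIso (CommRingCat.ofHom σ.toRingEquiv.toRingHom) :=
      (inferInstanceAs (IsIso σ.toRingEquiv.toCommRingCatIso.hom))
    exact inferInstanceAs (IsIso (Spec.map _))
  have hbase : iso ≫ g = g := by
    rw [← Spec.map_comp]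
    congr 1
    ext c
    exact σ.commutes c
  let M : Curv2.bc k X K ⟶ Curv2.bc k X K :=
    pullback.lift (pullback.fst str g) (pullback.snd str g ≫ iso) (by rw [Category.assoc, hbase, pullback.condition])
  haveI : IsIso M := by
    let N : pullback str g ⟶ pullback str g :=
      pullback.map _ _ _ _ (𝟙 X) iso (𝟙 _) (by simp) (by simp [hbase])
    have hN : IsIso N := inferInstance
    have : M = N := by
      refine pullback.hom_ext (f := str) (g := g) ?_ ?_
      · exact (pullback.lift_fst _ _ _).trans ((Category.comp_id _).symm.trans (pullback.lift_fst _ _ _).symm)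
      · exact (pullback.lift_snd _ _ _).trans (pullback.lift_snd _ _ _).symm
    rw [this]
    exact hN
  have hsigma : s' ≫ M = iso ≫ s := by
    refine pullback.hom_ext ?_ ?_
    · rw [Category.assoc, Category.assoc, show M ≫ pullback.fst str g = pullback.fst str g from pullback.lift_fst _ _ _]
      change s' ≫ Curv2.bcFst k X K = iso ≫ s ≫ Curv2.bcFst k X K
      rw [hsf', hsf, ← Category.assoc, ← Spec.map_comp]
      congr 2
      ext a
      exact (hσ a).symm
    · rw [Category.assoc, Category.assoc, show M ≫ pullback.snd str g = pullback.snd str g ≫ iso from pullback.lift_snd _ _ _]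
      change s' ≫ Curv2.bcSnd k X K ≫ iso = iso ≫ s ≫ Curv2.bcSnd k X K
      rw [← Category.assoc, hs', hs, Category.id_comp, Category.comp_id]
  have hM : M xb' = xb := by
    rw [← hsz', ← hsz, ← Scheme.Hom.comp_apply, hsigma, Scheme.Hom.comp_apply]
    exact congrArg s (Subsingleton.elim (α := PrimeSpectrum K) _ _)
  subst hM
  let W := Curv2.bc k X K
  letI oW : W.Over (Spec (CommRingCat.of K)) := ⟨pullback.snd str g ≫ iso⟩
  haveI : LocallyOfFiniteType (W ↘ Spec (CommRingCat.of K)) :=
    inferInstanceAs (LocallyOfFiniteType (pullback.snd str g ≫ iso))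
  refine (@NodalLib.isOrdDoublePt_iff K _ (Curv2.bc k X K) W oK oW _ _ M _ (pullback.lift_snd _ _ _) _ xb'
    (hclosed xb' hxb')).2 ?_
  refine @NodalLib.isOrdDoublePt_of_semilinear K K (W.presheaf.stalk xb') _ _ _ _ (@Curv2.stalkAlgebra K _ W oW xb')
    (@Curv2.stalkAlgebra K _ (Curv2.bc k X K) oK xb') σ.toRingEquiv (fun c => ?_) hodp
  show W.presheaf.germ ⊤ xb' trivial _ = W.presheaf.germ ⊤ xb' trivial _
  congr 1
  show ((pullback.snd str g ≫ iso).appTop) ((Scheme.ΓSpecIso (CommRingCat.of K)).inv c) =
    (pullback.snd str g).appTop ((Scheme.ΓSpecIso (CommRingCat.of K)).inv (σ c))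
  rw [Scheme.Hom.comp_appTop, CommRingCat.comp_apply]
  congr 1
  exact (ConcreteCategory.congr_hom (Scheme.ΓSpecIso_inv_naturality (CommRingCat.ofHom σ.toRingEquiv.toRingHom)) c).symm

end Groth.Agent.NodalLib
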