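import Groth.Agent.NodalLib.Family
import Groth.Agent.NodalLib.BaseEtale
import Groth.Agent.S1588
import Groth.Agent.SchTorsor.Props

/-!
# Descent of nodal families
-/

set_option autoImplicit false
set_option linter.style.haveILetI false
set_option linter.unusedSectionVars false
set_option backward.isDefEq.respectTransparency false
set_option backward.isDefEq.respectTransparency.types false
set_option maxHeartbeats 1000000

universe u

open CategoryTheory CategoryTheory.Limits AlgebraicGeometry

noncomputable section

namespace Groth.Agent.NodalLib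

/-- One-dimensional at-worst-nodal schemes descend along field extensions. -/
theorem nodal_of_bc (k : Type u) [Field k] (X : Scheme.{u}) [X.Over (Spec (CommRingCat.of k))]
    [LocallyOfFiniteType (X ↘ Spec (CommRingCat.of k))] (K : Type u) [Field K] [Algebra k K]
    (hc : ∀ Z ∈ irreducibleComponents (Curv2.bc k X K : Type u), topologicalKrullDim Z = 1)
    (hn : @Curv2.AtWorstNodal K _ (Curv2.bc k X K) ⟨Curv2.bcSnd k X K⟩) :
    (∀ Z ∈ irreducibleComponents (X : Type u), topologicalKrullDim Z = 1) ∧ Curv2.AtWorstNodal k X := by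
  let str := X ↘ Spec (CommRingCat.of k)
  let g := Spec.map (CommRingCat.ofHom (algebraMap k K))
  let XK := Curv2.bc k X K
  letI : XK.Over (Spec (CommRingCat.of K)) := ⟨Curv2.bcSnd k X K⟩
  haveI : LocallyOfFiniteType (XK ↘ Spec (CommRingCat.of K)) :=
    inferInstanceAs (LocallyOfFiniteType (pullback.snd str g))
  haveI : Subsingleton ↥(Spec (CommRingCat.of k)) := inferInstanceAs (Subsingleton (PrimeSpectrum k))
  haveI : Subsingleton ↥(Spec (CommRingCat.of K)) := inferInstanceAs (Subsingleton (PrimeSpectrum K))
  haveI : Flat (Curv2.bcFst k X K) := MorphismProperty.pullback_fst str g inferInstance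
  haveI : Surjective (Curv2.bcFst k X K) := by
    haveI : Surjective g := ⟨fun t => ⟨IsLocalRing.closedPoint K, Subsingleton.elim _ _⟩⟩
    exact MorphismProperty.pullback_fst _ _ inferInstance
  have hcomp : ∀ Z ∈ irreducibleComponents (X : Type u), topologicalKrullDim Z = 1 := by
    intro Z hZ
    obtain ⟨x, rfl, hmax⟩ := VarDim.exists_generic_of_component hZ
    obtain ⟨y, rfl⟩ := (Curv2.bcFst k X K).surjective x
    obtain ⟨C, hC, hsub⟩ := exists_mem_irreducibleComponents_subset_of_isIrreducible (closure {y})
      isIrreducible_singleton.closure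
    obtain ⟨η, rfl, hη⟩ := VarDim.exists_generic_of_component hC
    have hηy : η ⤳ y := specializes_iff_mem_closure.2 (hsub (subset_closure rfl))
    have hfst := hmax _ (hηy.map (Curv2.bcFst k X K).continuous)
    have h1 := hc _ hC
    rw [FibDim.topologicalKrullDim_closure (Curv2.bcSnd k X K),
      FibDim.rd_baseChange_eq_of_minimal (IsPullback.of_hasPullback str g) η (fun w hw _ _ => hη w hw),
      show pullback.fst str g η = pullback.fst str g y from hfst] at h1
    rw [FibDim.topologicalKrullDim_closure str]
    exact h1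
  refine ⟨hcomp, fun x hx => ?_⟩
  have hdim : topologicalKrullDim (X : Type u) = 1 := by
    refine le_antisymm ?_ ?_
    · rw [FibDim.topologicalKrullDim_eq_iSup_rd str]
      refine iSup_le fun z => ?_
      obtain ⟨C, hC, hsub⟩ := exists_mem_irreducibleComponents_subset_of_isIrreducible (closure {z})
        isIrreducible_singleton.closure
      rw [← FibDim.topologicalKrullDim_closure str z, ← hcomp C hC]
      exact Topology.IsInducing.topologicalKrullDim_le (f := Set.inclusion hsub) (Topology.IsEmbedding.inclusion hsub).toIsInducing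
    · obtain ⟨C, hC, -⟩ := exists_mem_irreducibleComponents_subset_of_isIrreducible (closure {x})
        isIrreducible_singleton.closure
      rw [← hcomp C hC]
      exact topologicalKrullDim_subspace_le _ _
  obtain ⟨y, hy⟩ := (Curv2.bcFst k X K).surjective x
  have hyc : IsClosed ({y} : Set XK) := by
    rw [isClosed_iff_rd_eq_zero (k := K)]
    have h0 := FibDim.rd_baseChange_le (IsPullback.of_hasPullback str g) y
    rw [show pullback.fst str g y = x from hy, (isClosed_iff_rd_eq_zero (k := k) x).1 hx] at h0
    exact Nat.le_zero.1 h0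
  rcases hn y hyc with ⟨U, hU, hsm⟩ | hnode
  · haveI : LocallyOfFinitePresentation (Curv2.bcSnd k X K) :=
      MorphismProperty.pullback_snd str g (inferInstance : LocallyOfFinitePresentation str)
    haveI : Smooth (U.ι ≫ Curv2.bcSnd k X K) := hsm
    have hys : y ∈ (Curv2.bcSnd k X K).smoothLocus := by
      have h1 : (⟨y, hU⟩ : U.toScheme) ∈ (U.ι ≫ Curv2.bcSnd k X K).smoothLocus := by
        rw [(U.ι ≫ Curv2.bcSnd k X K).smoothLocus_eq_top]; trivial
      rwa [← Scheme.Hom.preimage_smoothLocus_eq] at h1
    rw [S2155.result str g (Curv2.bcSnd k X K) (Curv2.bcFst k X K) (IsPullback.of_hasPullback str g)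
      (Or.inr inferInstance)] at hys
    refine Or.inl ⟨str.smoothLocus, hy ▸ hys, ?_⟩
    rw [← Scheme.Hom.smoothLocus_eq_top_iff, ← Scheme.Hom.preimage_smoothLocus_eq]
    exact Scheme.Opens.ι_preimage_self _
  · refine Or.inr ?_
    rw [← hy]
    exact (S1588.result k X hdim K y).2 hnode

theorem isNodalFamily_of_pullback {X S S' : Scheme.{u}} (f : X ⟶ S) (g : S' ⟶ S) [Flat g] [QuasiCompact g]
    [Surjective g] (h : Curv2.IsNodalFamily (pullback.snd f g)) : Curv2.IsNodalFamily f := by
  obtain ⟨hfl, hfp, hfib⟩ := h
  have hg : (@Surjective ⊓ @Flat ⊓ @QuasiCompact : MorphismProperty Scheme.{u}) g :=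
    ⟨⟨inferInstance, inferInstance⟩, inferInstance⟩
  have hflat : Flat f := MorphismProperty.of_pullback_snd_of_descendsAlong (P := @Flat) hg hfl
  have hlfp : LocallyOfFinitePresentation f :=
    MorphismProperty.of_pullback_snd_of_descendsAlong (P := @LocallyOfFinitePresentation) hg hfp
  refine ⟨hflat, hlfp, fun s => ?_⟩
  obtain ⟨s', hs⟩ := g.surjective s
  let q := pullback.snd f g
  let a := Spec.map (g.residueFieldMap s') ≫ Spec.map (S.residueFieldCongr hs).inv
  let j : q.fiber s' ⟶ f.fiber s :=
    pullback.lift (q.fiberι s' ≫ pullback.fst f g) (q.fiberToSpecResidueField s' ≫ a) (by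
      rw [Category.assoc, Category.assoc, pullback.condition, ← Category.assoc, q.fiber_fac s', Category.assoc,
        residue_fac g hs, Category.assoc])
  have sq : IsPullback j (q.fiberToSpecResidueField s') (f.fiberToSpecResidueField s) a := by
    refine IsPullback.of_right (h₁₂ := f.fiberι s) (h₂₂ := S.fromSpecResidueField s) (v₁₃ := f) ?_
      (pullback.lift_snd _ _ _) (IsPullback.of_hasPullback f (S.fromSpecResidueField s))
    rw [show j ≫ f.fiberι s = q.fiberι s' ≫ pullback.fst f g from pullback.lift_fst _ _ _,
      ← residue_fac g hs]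
    exact (IsPullback.of_hasPullback q (S'.fromSpecResidueField s')).paste_horiz (IsPullback.of_hasPullback f g)
  let k := S.residueField s
  let K := S'.residueField s'
  letI : Algebra k K := ((S.residueFieldCongr hs).inv ≫ g.residueFieldMap s').hom.toAlgebra
  have hb : Spec.map (CommRingCat.ofHom (algebraMap k K)) = a := by
    show _ = Spec.map (g.residueFieldMap s') ≫ Spec.map (S.residueFieldCongr hs).inv
    rw [← Spec.map_comp]; rfl
  letI : (f.fiber s).Over (Spec (CommRingCat.of k)) := ⟨f.fiberToSpecResidueField s⟩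
  letI : (q.fiber s').Over (Spec (CommRingCat.of K)) := ⟨q.fiberToSpecResidueField s'⟩
  haveI : LocallyOfFiniteType ((f.fiber s) ↘ Spec (CommRingCat.of k)) :=
    inferInstanceAs (LocallyOfFiniteType (f.fiberToSpecResidueField s))
  haveI : LocallyOfFiniteType ((q.fiber s') ↘ Spec (CommRingCat.of K)) :=
    inferInstanceAs (LocallyOfFiniteType (q.fiberToSpecResidueField s'))
  let W := Curv2.bc k (f.fiber s) K
  letI : W.Over (Spec (CommRingCat.of K)) := ⟨Curv2.bcSnd k (f.fiber s) K⟩
  haveI : LocallyOfFiniteType (W ↘ Spec (CommRingCat.of K)) :=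
    inferInstanceAs (LocallyOfFiniteType (pullback.snd ((f.fiber s) ↘ Spec (CommRingCat.of k))
      (Spec.map (CommRingCat.ofHom (algebraMap k K)))))
  have sq' : IsPullback j (q.fiberToSpecResidueField s') ((f.fiber s) ↘ Spec (CommRingCat.of k))
      (Spec.map (CommRingCat.ofHom (algebraMap k K))) := by
    rw [hb]; exact sq
  let φ : W ⟶ q.fiber s' := sq'.isoPullback.inv
  have hφ : φ ≫ ((q.fiber s') ↘ Spec (CommRingCat.of K)) = W ↘ Spec (CommRingCat.of K) :=
    sq'.isoPullback_inv_snd
  exact nodal_of_bc k (f.fiber s) K (components_dim (k := K) φ hφ (hfib s').1)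
    (atWorstNodal_of_etale (k := K) φ hφ (hfib s').2)

end Groth.Agent.NodalLib
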