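import Groth.Prelude.Def_CurvBase
import Groth.Agent.Algebraize7.CompletionEquiv
import Groth.Agent.EtStalk.Basic
import Groth.Agent.FibDim.BaseField
import Groth.Agent.FibDim.AffineSpaceFibre
import Groth.Agent.DimFormula.FlatFibres
import Groth.Agent.Lib.CurveSection
import Groth.Agent.SrcDescent.SchemeSmooth
import Groth.Agent.AlgStLib.RepDiag
import Mathlib.RingTheory.Unramified.LocalRing
import Mathlib.RingTheory.Flat.FaithfullyFlat.Algebra

/-!
# Etale morphisms preserve and reflect nodes
-/

set_option autoImplicit false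
set_option linter.style.haveILetI false
set_option linter.unusedSectionVars false
set_option backward.isDefEq.respectTransparency false
set_option backward.isDefEq.respectTransparency.types false

universe u

open CategoryTheory CategoryTheory.Limits AlgebraicGeometry TopologicalSpace
open IsLocalRing

noncomputable section

namespace Groth.Agent.NodalLib

/-- A flat unramified local map with trivial residue extension induces an isomorphism of completions. -/
theorem nonempty_completion {K A B : Type u} [Field K] [CommRing A] [CommRing B] [IsLocalRing A] [IsLocalRing B]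
    [Algebra K A] [Algebra K B] (φ : A →ₐ[K] B) [IsLocalHom φ.toRingHom] (hflat : φ.toRingHom.Flat)
    (hm : (maximalIdeal A).map φ.toRingHom = maximalIdeal B)
    (hres : ∀ b : B, ∃ c : K, b - algebraMap K B c ∈ maximalIdeal B) :
    Nonempty (AdicCompletion (maximalIdeal A) A ≃ₐ[K] AdicCompletion (maximalIdeal B) B) := by
  have hpow : ∀ n, (maximalIdeal A ^ n).map φ.toRingHom = maximalIdeal B ^ n := fun n => by
    rw [Ideal.map_pow, hm]
  have hle : ∀ n, maximalIdeal A ^ n ≤ (maximalIdeal B ^ n).comap φ := fun n =>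
    Ideal.map_le_iff_le_comap.1 (hpow n).le
  refine Algebraize7.nonempty_completion_algEquiv _ _ φ hle fun n => ⟨?_, ?_⟩
  · algebraize [φ.toRingHom]
    haveI : Module.FaithfullyFlat A B := Module.FaithfullyFlat.of_flat_of_isLocalHom
    refine (injective_iff_map_eq_zero _).2 fun x hx => ?_
    obtain ⟨a, rfl⟩ := Ideal.Quotient.mk_surjective x
    change Ideal.Quotient.mk _ (φ a) = 0 at hx
    rw [Ideal.Quotient.eq_zero_iff_mem, ← hpow] at hx
    rw [Ideal.Quotient.eq_zero_iff_mem, ← Ideal.comap_map_eq_self_of_faithfullyFlat (B := B) (maximalIdeal A ^ n)]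
    exact hx
  · have key : ∀ (m : ℕ) (b : B), ∃ a : A, b - φ a ∈ maximalIdeal B ^ m := by
      intro m
      induction m with
      | zero => exact fun b => ⟨0, by simp⟩
      | succ m ih =>
        intro b
        obtain ⟨a, ha⟩ := ih b
        suffices h : ∀ z ∈ maximalIdeal B ^ m, ∃ w : A, z - φ w ∈ maximalIdeal B ^ (m + 1) by
          obtain ⟨w, hw⟩ := h _ ha
          exact ⟨a + w, by rw [map_add, ← sub_sub]; exact hw⟩
        intro z hz
        rw [← hpow, Ideal.map] at hz
        induction hz using Submodule.span_induction with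
        | mem z hz =>
          obtain ⟨w, -, rfl⟩ := hz
          exact ⟨w, by simp⟩
        | zero => exact ⟨0, by simp⟩
        | add x y _ _ hx hy =>
          obtain ⟨w, hw⟩ := hx
          obtain ⟨w', hw'⟩ := hy
          exact ⟨w + w', by rw [map_add, add_sub_add_comm]; exact add_mem hw hw'⟩
        | smul r x hxs hx =>
          obtain ⟨w, hw⟩ := hx
          obtain ⟨c, hc⟩ := hres r
          refine ⟨algebraMap K A c * w, ?_⟩
          have hx' : x ∈ maximalIdeal B ^ m := by rw [← hpow, Ideal.map]; exact hxs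
          rw [map_mul, AlgHom.commutes, smul_eq_mul,
            show r * x - algebraMap K B c * φ w = (r - algebraMap K B c) * x + algebraMap K B c * (x - φ w) by ring]
          refine add_mem ?_ (Ideal.mul_mem_left _ _ hw)
          rw [pow_succ']
          exact Ideal.mul_mem_mul hc hx'
    intro x
    obtain ⟨b, rfl⟩ := Ideal.Quotient.mk_surjective x
    obtain ⟨a, ha⟩ := key n b
    refine ⟨Ideal.Quotient.mk _ a, ?_⟩
    show Ideal.Quotient.mk _ (φ a) = Ideal.Quotient.mk _ b
    rw [Ideal.Quotient.mk_eq_mk_iff_sub_mem, ← neg_mem_iff, neg_sub]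
    exact ha

theorem isOrdDoublePt_iff_of_completion {K A B : Type u} [Field K] [CommRing A] [CommRing B] [IsLocalRing A]
    [IsLocalRing B] [Algebra K A] [Algebra K B]
    (e : AdicCompletion (maximalIdeal A) A ≃ₐ[K] AdicCompletion (maximalIdeal B) B) :
    Curv2.IsOrdDoublePt K A ↔ Curv2.IsOrdDoublePt K B := by
  have h1 : ∀ c : K, algebraMap A (AdicCompletion (maximalIdeal A) A) (algebraMap K A c) =
      algebraMap K _ c := fun c => (IsScalarTower.algebraMap_apply K A _ c).symm
  have h2 : ∀ c : K, algebraMap B (AdicCompletion (maximalIdeal B) B) (algebraMap K B c) =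
      algebraMap K _ c := fun c => (IsScalarTower.algebraMap_apply K B _ c).symm
  constructor
  · rintro ⟨f, hf⟩
    refine ⟨e.symm.toRingEquiv.trans f, fun c => ?_⟩
    rw [← hf c, RingEquiv.trans_apply, h1, h2]
    exact congrArg f (e.symm.commutes c)
  · rintro ⟨f, hf⟩
    refine ⟨e.toRingEquiv.trans f, fun c => ?_⟩
    rw [← hf c, RingEquiv.trans_apply, h1, h2]
    exact congrArg f (e.commutes c)

section Points

variable {k : Type u} [Field k] {X : Scheme.{u}} [X.Over (Spec (CommRingCat.of k))]
  [LocallyOfFiniteType (X ↘ Spec (CommRingCat.of k))]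

/-- Closed points of a scheme over a field have relative dimension zero. -/
theorem isClosed_iff_rd_eq_zero (x : X) :
    IsClosed ({x} : Set X) ↔ FibDim.rd (X ↘ Spec (CommRingCat.of k)) x = 0 := by
  haveI : Subsingleton ↥(Spec (CommRingCat.of k)) := inferInstanceAs (Subsingleton (PrimeSpectrum k))
  have h1 := VarDim.topologicalKrullDim_closure_singleton (X ↘ Spec (CommRingCat.of k)) x
  have h2 := FibDim.topologicalKrullDim_closure (X ↘ Spec (CommRingCat.of k)) x
  rw [h1] at h2
  rw [VarDim.closedPoint_iff_deg_eq_zero (X ↘ Spec (CommRingCat.of k))]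
  have h3 : VarDim.deg (X ↘ Spec (CommRingCat.of k)) x = FibDim.rd (X ↘ Spec (CommRingCat.of k)) x := by
    exact_mod_cast h2
  rw [h3]

end Points

variable {k : Type u} [Field k] {X Y : Scheme.{u}} [X.Over (Spec (CommRingCat.of k))]
  [Y.Over (Spec (CommRingCat.of k))] [LocallyOfFiniteType (X ↘ Spec (CommRingCat.of k))]
  [LocallyOfFiniteType (Y ↘ Spec (CommRingCat.of k))]
  (h : Y ⟶ X) [Etale h] (hh : h ≫ (X ↘ Spec (CommRingCat.of k)) = Y ↘ Spec (CommRingCat.of k))

omit [LocallyOfFiniteType (X ↘ Spec (CommRingCat.of k))] [LocallyOfFiniteType (Y ↘ Spec (CommRingCat.of k))] [Etale h] in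
include hh in
/-- The stalk maps commute with the maps from the base field. -/
theorem stalkMap_commutes (y : Y) (c : k) :
    h.stalkMap y (Curv2.stalkMap k X (h y) c) = Curv2.stalkMap k Y y c := by
  have h1 := Scheme.Hom.germ_stalkMap_apply h ⊤ y trivial (Coh.toGlobal (X ↘ Spec (CommRingCat.of k)) c)
  refine h1.trans ?_
  show Y.presheaf.germ ⊤ y trivial _ = Y.presheaf.germ ⊤ y trivial _
  congr 1
  rw [← hh]
  rfl

omit [LocallyOfFiniteType (X ↘ Spec (CommRingCat.of k))] [LocallyOfFiniteType (Y ↘ Spec (CommRingCat.of k))] in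
include hh in
/-- Smoothness descends to the image of an etale map. -/
theorem exists_smooth_of_etale (y : Y) (U : Y.Opens) (hU : y ∈ U)
    (hsm : Smooth (U.ι ≫ (Y ↘ Spec (CommRingCat.of k)))) :
    ∃ V : X.Opens, h y ∈ V ∧ Smooth (V.ι ≫ (X ↘ Spec (CommRingCat.of k))) := by
  let f := U.ι ≫ h
  let V : X.Opens := ⟨Set.range f, f.isOpenMap.isOpen_range⟩
  have hV : Set.range f ⊆ Set.range V.ι := by rw [Scheme.Opens.range_ι]; exact subset_rfl
  let f' := IsOpenImmersion.lift V.ι f hV
  have hf' : f' ≫ V.ι = f := IsOpenImmersion.lift_fac _ _ _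
  haveI : Etale (f' ≫ V.ι) := by rw [hf']; infer_instance
  haveI : Etale f' := MorphismProperty.of_postcomp (W := @Etale) (W' := @IsOpenImmersion) f' V.ι inferInstance inferInstance
  haveI : Surjective f' := ⟨fun z => by
    obtain ⟨w, hw⟩ := z.2
    refine ⟨w, V.ι.isOpenEmbedding.injective ?_⟩
    rw [← Scheme.Hom.comp_apply, hf']
    exact hw⟩
  refine ⟨V, ⟨⟨y, hU⟩, rfl⟩, SrcDescent.smooth_of_etale_comp f' _ ?_⟩
  rw [← Category.assoc, hf', Category.assoc, hh]
  exact hsm

include hh in
/-- Etale maps send closed points to closed points. -/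
theorem isClosed_map_iff (y : Y) : IsClosed ({h y} : Set X) ↔ IsClosed ({y} : Set Y) := by
  haveI : LocallyQuasiFinite h := AlgStLib.locallyQuasiFinite_of_unr h
  rw [VarDim.closedPoint_iff_deg_eq_zero (X ↘ Spec (CommRingCat.of k)),
    VarDim.closedPoint_iff_deg_eq_zero (Y ↘ Spec (CommRingCat.of k)),
    VarDim.deg_eq_add h (X ↘ Spec (CommRingCat.of k)) hh, ← DimFormula.rd_eq_fdeg,
    FibDim.rd_eq_zero_of_quasiFinite, add_zero]

include hh in
/-- Etale maps preserve and reflect ordinary double points over an algebraically closed field. -/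
theorem isOrdDoublePt_iff [IsAlgClosed k] (y : Y) (hy : IsClosed ({y} : Set Y)) :
    (letI := Curv2.stalkAlgebra k X (h y); Curv2.IsOrdDoublePt k (X.presheaf.stalk (h y))) ↔
      (letI := Curv2.stalkAlgebra k Y y; Curv2.IsOrdDoublePt k (Y.presheaf.stalk y)) := by
  letI := Curv2.stalkAlgebra k X (h y)
  letI := Curv2.stalkAlgebra k Y y
  haveI : IsNoetherianRing (X.presheaf.stalk (h y)) := by
    haveI : IsLocallyNoetherian X := LocallyOfFiniteType.isLocallyNoetherian (X ↘ Spec (CommRingCat.of k))
    infer_instance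
  let φ : X.presheaf.stalk (h y) →ₐ[k] Y.presheaf.stalk y :=
    { (h.stalkMap y).hom with
      commutes' := fun c => stalkMap_commutes h hh y c }
  haveI : IsLocalHom φ.toRingHom := h.toLRSHom.prop y
  have hmax : (maximalIdeal (X.presheaf.stalk (h y))).map φ.toRingHom = maximalIdeal (Y.presheaf.stalk y) := by
    algebraize [(h.stalkMap y).hom]
    haveI : IsLocalHom (algebraMap (X.presheaf.stalk (h y)) (Y.presheaf.stalk y)) := h.toLRSHom.prop y
    haveI : Algebra.FormallyUnramified (X.presheaf.stalk (h y)) (Y.presheaf.stalk y) :=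
      FormallyUnramified.stalkMap (f := h) y
    haveI : Algebra.EssFiniteType (X.presheaf.stalk (h y)) (Y.presheaf.stalk y) :=
      LocallyOfFiniteType.stalkMap h y
    exact Algebra.FormallyUnramified.map_maximalIdeal
  obtain ⟨e⟩ := nonempty_completion φ (Flat.stalkMap h y) hmax fun b => CurveSection.exists_stalkMap_sub_mem k hy b
  exact isOrdDoublePt_iff_of_completion e

include hh in
/-- Etale maps preserve and reflect nodes. -/
theorem isNode_iff (y : Y) : Curv2.IsNode k X (h y) ↔ Curv2.IsNode k Y y := by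
  let K := AlgebraicClosure k
  let g := Spec.map (CommRingCat.ofHom (algebraMap k K))
  letI : (Curv2.bc k X K).Over (Spec (CommRingCat.of K)) := ⟨Curv2.bcSnd k X K⟩
  letI : (Curv2.bc k Y K).Over (Spec (CommRingCat.of K)) := ⟨Curv2.bcSnd k Y K⟩
  haveI : LocallyOfFiniteType ((Curv2.bc k X K) ↘ Spec (CommRingCat.of K)) :=
    inferInstanceAs (LocallyOfFiniteType (pullback.snd (X ↘ Spec (CommRingCat.of k)) g))
  haveI : LocallyOfFiniteType ((Curv2.bc k Y K) ↘ Spec (CommRingCat.of K)) :=
    inferInstanceAs (LocallyOfFiniteType (pullback.snd (Y ↘ Spec (CommRingCat.of k)) g))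
  let H : Curv2.bc k Y K ⟶ Curv2.bc k X K :=
    pullback.map _ _ _ _ h (𝟙 _) (𝟙 _) (by simp [hh]) (by simp)
  have hH : IsPullback H (Curv2.bcFst k Y K) (Curv2.bcFst k X K) h := by
    refine IsPullback.of_right (h₁₂ := Curv2.bcSnd k X K) (h₂₂ := (X ↘ Spec (CommRingCat.of k))) (v₁₃ := g) ?_
      (pullback.lift_fst _ _ _) (IsPullback.of_hasPullback (X ↘ Spec (CommRingCat.of k)) g).flip
    rw [show H ≫ Curv2.bcSnd k X K = Curv2.bcSnd k Y K by simp [H], hh]
    exact (IsPullback.of_hasPullback (Y ↘ Spec (CommRingCat.of k)) g).flip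
  haveI : Etale H := MorphismProperty.of_isPullback hH.flip inferInstance
  have hHs : H ≫ ((Curv2.bc k X K) ↘ Spec (CommRingCat.of K)) = (Curv2.bc k Y K) ↘ Spec (CommRingCat.of K) := by
    show H ≫ Curv2.bcSnd k X K = Curv2.bcSnd k Y K
    simp [H]
  have hclosed : ∀ (yb : Curv2.bc k Y K), IsClosed ({Curv2.bcFst k Y K yb} : Set Y) → IsClosed ({yb} : Set _) :=
    fun yb hc => by
    rw [isClosed_iff_rd_eq_zero (k := K)]
    have h0 := FibDim.rd_baseChange_le (IsPullback.of_hasPullback (Y ↘ Spec (CommRingCat.of k)) g) yb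
    rw [(isClosed_iff_rd_eq_zero (k := k) _).1 hc] at h0
    exact Nat.le_zero.1 h0
  constructor
  · rintro ⟨hc, xb, hxb, hodp⟩
    have hyc := (isClosed_map_iff h hh y).1 hc
    obtain ⟨p, h1, h2⟩ := Scheme.Pullback.exists_preimage_pullback (f := Curv2.bcFst k X K) (g := h) xb y hxb
    obtain ⟨yb, rfl⟩ := hH.isoPullback.hom.surjective p
    rw [← Scheme.Hom.comp_apply, hH.isoPullback_hom_fst] at h1
    rw [← Scheme.Hom.comp_apply, hH.isoPullback_hom_snd] at h2
    subst h1
    subst h2
    exact ⟨hyc, yb, rfl, (isOrdDoublePt_iff H hHs yb (hclosed yb hyc)).1 hodp⟩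
  · rintro ⟨hc, yb, hyb, hodp⟩
    subst hyb
    refine ⟨(isClosed_map_iff h hh _).2 hc, H yb, ?_, (isOrdDoublePt_iff H hHs yb (hclosed yb hc)).2 hodp⟩
    rw [← Scheme.Hom.comp_apply, hH.w, Scheme.Hom.comp_apply]

include hh in
/-- Etale maps preserve at worst nodal singularities. -/
theorem atWorstNodal_of_etale (hX : Curv2.AtWorstNodal k X) : Curv2.AtWorstNodal k Y := fun y hy => by
  rcases hX (h y) ((isClosed_map_iff h hh y).2 hy) with ⟨U, hU, hsm⟩ | hn
  · refine Or.inl ⟨h ⁻¹ᵁ U, hU, ?_⟩
    rw [← hh, ← Category.assoc, ← morphismRestrict_ι h U, Category.assoc]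
    haveI : Etale (h ∣_ U) := IsZariskiLocalAtTarget.restrict (P := @Etale) inferInstance U
    infer_instance
  · exact Or.inr ((isNode_iff h hh y).1 hn)

include hh in
/-- Surjective etale maps reflect at worst nodal singularities. -/
theorem atWorstNodal_of_surjective [Surjective h] (hY : Curv2.AtWorstNodal k Y) : Curv2.AtWorstNodal k X := fun x hx => by
  obtain ⟨y, rfl⟩ := h.surjective x
  rcases hY y ((isClosed_map_iff h hh y).1 hx) with ⟨U, hU, hsm⟩ | hn
  · exact Or.inl (exists_smooth_of_etale h hh y U hU hsm)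
  · exact Or.inr ((isNode_iff h hh y).2 hn)

include hh in
/-- Etale maps preserve the dimension of the components. -/
theorem components_dim (hX : ∀ Z ∈ irreducibleComponents (X : Type u), topologicalKrullDim Z = 1) :
    ∀ Z ∈ irreducibleComponents (Y : Type u), topologicalKrullDim Z = 1 := fun Z hZ => by
  obtain ⟨w, rfl, hw⟩ := VarDim.exists_generic_of_component hZ
  have hmax : ∀ x, x ⤳ h w → x = h w := fun x hx => by
    obtain ⟨z, hz, rfl⟩ := Flat.generalizingMap h hx
    rw [hw z hz]
  have hd := hX _ (VarDim.closure_mem_irreducibleComponents hmax)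
  haveI : LocallyQuasiFinite h := AlgStLib.locallyQuasiFinite_of_unr h
  rw [VarDim.topologicalKrullDim_closure_singleton (X ↘ Spec (CommRingCat.of k))] at hd
  rw [VarDim.topologicalKrullDim_closure_singleton (Y ↘ Spec (CommRingCat.of k)),
    VarDim.deg_eq_add h (X ↘ Spec (CommRingCat.of k)) hh, ← DimFormula.rd_eq_fdeg,
    FibDim.rd_eq_zero_of_quasiFinite, add_zero]
  exact hd

end Groth.Agent.NodalLib
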